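import Mathlib.AlgebraicGeometry.Morphisms.Separated
import Mathlib.AlgebraicGeometry.Morphisms.Proper

/-!
# Graphs of morphisms from opens into separated schemes
-/

set_option autoImplicit false
set_option backward.isDefEq.respectTransparency false
set_option backward.defeqAttrib.useBackward true

universe u

open CategoryTheory CategoryTheory.Limits AlgebraicGeometry TopologicalSpace

namespace Groth.Agent.QDom.Graph

/-- The graph of `f : U ⟶ Y` is closed over `U` when the target is separated. -/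
lemma closure_inter_subset {S X Y : Scheme.{u}} (pX : X ⟶ S) (pY : Y ⟶ S) [IsSeparated pY]
    (U : X.Opens) (f : U.toScheme ⟶ Y) (hf : U.ι ≫ pX = f ≫ pY) :
    closure (Set.range (fun x => pullback.lift U.ι f hf x)) ∩
      ((pullback.fst pX pY) ⁻¹ᵁ U : Set ↥(pullback pX pY)) ⊆
        Set.range (fun x => pullback.lift U.ι f hf x) := by
  rintro z ⟨hz, hzU⟩
  let D := (pullback.fst pX pY) ⁻¹ᵁ U
  let σ : U.toScheme ⟶ D.toScheme := IsOpenImmersion.lift D.ι (pullback.lift U.ι f hf) (by
    rw [Scheme.Opens.range_ι]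
    rintro _ ⟨x, rfl⟩
    show pullback.fst pX pY (pullback.lift U.ι f hf x) ∈ U
    rw [← Scheme.Hom.comp_apply, pullback.lift_fst]
    exact x.2)
  have hσ : σ ≫ D.ι = pullback.lift U.ι f hf := IsOpenImmersion.lift_fac _ _ _
  have hsec : σ ≫ ((pullback.fst pX pY) ∣_ U) = 𝟙 _ := by
    rw [← cancel_mono U.ι, Category.assoc, morphismRestrict_ι, reassoc_of% hσ,
      pullback.lift_fst, Category.id_comp]
  have : IsClosedImmersion (σ ≫ ((pullback.fst pX pY) ∣_ U)) := hsec ▸ inferInstance
  have : IsClosedImmersion σ := IsClosedImmersion.of_comp σ ((pullback.fst pX pY) ∣_ U)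
  have hmem : (⟨z, hzU⟩ : D.toScheme) ∈ closure (Set.range σ) := by
    refine closure_subtype.mpr ?_
    refine closure_mono ?_ hz
    rintro _ ⟨x, rfl⟩
    exact ⟨σ x, ⟨x, rfl⟩, congr(($hσ) x)⟩
  rw [σ.isClosedEmbedding.isClosed_range.closure_eq] at hmem
  obtain ⟨x, hx⟩ := hmem
  exact ⟨x, (congr(($hσ) x)).symm.trans (congrArg Subtype.val hx)⟩

end Groth.Agent.QDom.Graph
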