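import Groth.Agent.QDom.Global
import Groth.Agent.BlowUp.Glue
import Groth.Agent.BlowUpProper.Basic
import Groth.Agent.GrpScheme.Ext
import Groth.Agent.FlatMor.SchDom

/-!
# Extension of quasi-dominations by admissible blow-ups
-/

set_option autoImplicit false
set_option maxHeartbeats 4000000
set_option backward.isDefEq.respectTransparency false
set_option backward.defeqAttrib.useBackward true

universe u

namespace Groth.Agent.QDom.Main

open AlgebraicGeometry CategoryTheory CategoryTheory.Limits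

/-- A quasi-domination of `V` extends, after blowing up a finite type ideal with support exactly the
complement of `V`, to an open with closed graph in which the old domain is schematically dense. -/
theorem exists_extension'
    {S X Y : Scheme.{u}} [CompactSpace S] [QuasiSeparatedSpace S]
    [CompactSpace X] [QuasiSeparatedSpace X] [CompactSpace Y] [QuasiSeparatedSpace Y]
    (pX : X ⟶ S) (pY : Y ⟶ S) [IsSeparated pY] [LocallyOfFiniteType pY]
    (U V : X.Opens) (hUV : U ≤ V) (hU : IsCompact (U : Set X)) (hV : IsCompact (V : Set X))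
    (f : (U : Scheme.{u}) ⟶ Y) (hf : U.ι ≫ pX = f ≫ pY)
    (hcl : closure (Set.range (fun x => pullback.lift U.ι f hf x)) ∩
        ((pullback.fst pX pY) ⁻¹ᵁ V : Set ↥(pullback pX pY)) ⊆ Set.range (fun x => pullback.lift U.ι f hf x)) :
    ∃ (𝓘 : X.IdealSheafData) (Xt : Scheme.{u}) (q : Xt ⟶ X),
      BlowUp.IsBlowUp q 𝓘 ∧ BlowUp.IsAdmissibleFor V 𝓘 ∧ (𝓘.support : Set X) = (V : Set X)ᶜ ∧
      ∃ (W : Xt.Opens) (hle : q ⁻¹ᵁ U ≤ W) (ft : (W : Scheme.{u}) ⟶ Y) (hft : W.ι ≫ q ≫ pX = ft ≫ pY),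
        Xt.homOfLE hle ≫ ft = (q ∣_ U) ≫ f ∧
        IsClosed (Set.range (fun x => pullback.lift W.ι ft hft x)) ∧
        IsSchemeTheoreticallyDominant (Xt.homOfLE hle) := by
  classical
  have : QuasiCompact pY := QuasiCompact.of_comp _ (terminal.from S)
  have : QuasiSeparatedSpace (U : Scheme.{u}) := quasiSeparatedSpace_of_quasiSeparated U.ι
  have : CompactSpace (U : Scheme.{u}) := isCompact_iff_compactSpace.mp hU
  have : QuasiCompact f := QuasiCompact.of_comp _ (terminal.from Y)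
  let Q := pullback pX pY
  have : CompactSpace (pullback pX pY : Scheme.{u}) :=
    QuasiCompact.compactSpace_of_compactSpace (pullback.fst pX pY)
  let Γ₀ := pullback.lift U.ι f hf
  have hcl' : closure (Set.range Γ₀) ∩ ((pullback.fst pX pY) ⁻¹ᵁ V : Set Q) ⊆ Set.range Γ₀ := hcl
  -- affine charts
  have hchart : ∀ w : Q, ∃ (Si : S.Opens) (Xi : X.Opens) (Yi : Y.Opens), IsAffineOpen Si ∧
      IsAffineOpen Xi ∧ IsAffineOpen Yi ∧ Xi ≤ pX ⁻¹ᵁ Si ∧ Yi ≤ pY ⁻¹ᵁ Si ∧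
      pullback.fst pX pY w ∈ Xi ∧ pullback.snd pX pY w ∈ Yi := fun w => by
    obtain ⟨Si, hw, -⟩ := IdealSh.Comap.exists_affine_le (pX (pullback.fst pX pY w)) ⊤ trivial
    obtain ⟨Xi, hwX, hX⟩ :=
      IdealSh.Comap.exists_affine_le (pullback.fst pX pY w) (pX ⁻¹ᵁ Si.1) hw
    obtain ⟨Yi, hwY, hY⟩ :=
      IdealSh.Comap.exists_affine_le (pullback.snd pX pY w) (pY ⁻¹ᵁ Si.1) (by
        show pY (pullback.snd pX pY w) ∈ Si.1
        rwa [← Scheme.Hom.comp_apply, ← pullback.condition, Scheme.Hom.comp_apply])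
    exact ⟨Si.1, Xi.1, Yi.1, Si.2, Xi.2, Yi.2, hX, hY, hwX, hwY⟩
  choose Si Xo Yo hSi hXo hYo hXS hYS hwX hwY using hchart
  obtain ⟨t, ht⟩ := isCompact_univ.elim_finite_subcover
    (fun w : Q => (((pullback.fst pX pY) ⁻¹ᵁ Xo w ⊓ (pullback.snd pX pY) ⁻¹ᵁ Yo w : Q.Opens) : Set Q))
    (fun w => TopologicalSpace.Opens.isOpen _) (fun w _ => Set.mem_iUnion.mpr ⟨w, hwX w, hwY w⟩)
  -- one ideal for every chart
  have hone : ∀ i : Q, ∃ (K : X.IdealSheafData), BlowUp.IsAdmissibleFor V K ∧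
      ∀ {Xt : Scheme.{u}} (q : Xt ⟶ X), IsSchemeTheoreticallyDominant (q ⁻¹ᵁ V).ι →
      QuasiCompact (q ⁻¹ᵁ V).ι → BlowUp.IsEffCartierIdeal (K.comap q) →
      ∀ {G : Scheme.{u}} (ρ : G ⟶ Xt) (κ : G ⟶ Y) (v : (q ⁻¹ᵁ U : Xt.Opens).toScheme ⟶ G),
      IsSchemeTheoreticallyDominant v → QuasiCompact v →
      v ≫ ρ = (q ⁻¹ᵁ U).ι → ρ ≫ q ≫ pX = κ ≫ pY → v ≫ κ = (q ∣_ U) ≫ f →
      ∀ γ : G, q (ρ γ) ∈ Xo i → κ γ ∈ Yo i → ∃ (T : Xt.Opens), ρ γ ∈ T ∧
        IsSchemeTheoreticallyDominant (T.ι ⁻¹ᵁ (q ⁻¹ᵁ U)).ι ∧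
        ∃ τ : T.toScheme ⟶ Y, τ ≫ pY = T.ι ≫ q ≫ pX ∧
          ∀ {W : Scheme.{u}} (m : W ⟶ T.toScheme) (c : W ⟶ U.toScheme),
            m ≫ T.ι ≫ q = c ≫ U.ι → m ≫ τ = c ≫ f := by
    intro i
    let Xi := Xo i
    have : IsAffine Xi.toScheme := hXo i
    have : IsAffine (Yo i).toScheme := hYo i
    have : IsAffine (Si i).toScheme := hSi i
    let rX := pX.resLE (Si i) Xi (hXS i)
    let rY := pY.resLE (Si i) (Yo i) (hYS i)
    have hrX : rX ≫ (Si i).ι = Xi.ι ≫ pX := Scheme.Hom.resLE_comp_ι _ _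
    have hrY : rY ≫ (Si i).ι = (Yo i).ι ≫ pY := Scheme.Hom.resLE_comp_ι _ _
    let P : Scheme.{u} := pullback rX rY
    have : IsAffine P := inferInstanceAs (IsAffine (pullback rX rY : Scheme.{u}))
    let π : P ⟶ Xi.toScheme := pullback.fst rX rY
    let κ₀ : P ⟶ Y := pullback.snd rX rY ≫ (Yo i).ι
    have : LocallyOfFiniteType rY := by
      have : LocallyOfFiniteType (rY ≫ (Si i).ι) := hrY ▸ inferInstance
      exact locallyOfFiniteType_of_comp rY (Si i).ι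
    let m : P ⟶ Q := pullback.map rX rY pX pY Xi.ι (Yo i).ι (Si i).ι hrX hrY
    let Ui : Xi.toScheme.Opens := Xi.ι ⁻¹ᵁ (U.ι ''ᵁ (f ⁻¹ᵁ Yo i))
    have hUiU : Ui ≤ Xi.ι ⁻¹ᵁ U := fun x hx => by
      obtain ⟨u, _, hux⟩ := hx
      show Xi.ι x ∈ U
      rw [← hux]
      exact u.2
    let cU : Ui.toScheme ⟶ U.toScheme := IsOpenImmersion.lift U.ι (Ui.ι ≫ Xi.ι) (by
      rw [Scheme.Opens.range_ι]; rintro _ ⟨x, rfl⟩; exact hUiU x.2)
    have hcU : cU ≫ U.ι = Ui.ι ≫ Xi.ι := IsOpenImmersion.lift_fac _ _ _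
    have hcY : Set.range (cU ≫ f) ⊆ Set.range (Yo i).ι := by
      rw [Scheme.Opens.range_ι]
      rintro _ ⟨x, rfl⟩
      obtain ⟨u, hu, hux⟩ := x.2
      have : u = cU x := U.ι.isOpenEmbedding.injective (by
        rw [← Scheme.Hom.comp_apply cU, hcU, Scheme.Hom.comp_apply]; exact hux)
      rw [Scheme.Hom.comp_apply, ← this]
      exact hu
    let sY := IsOpenImmersion.lift (Yo i).ι (cU ≫ f) hcY
    have hsY : sY ≫ (Yo i).ι = cU ≫ f := IsOpenImmersion.lift_fac _ _ _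
    let si : Ui.toScheme ⟶ P := pullback.lift Ui.ι sY (by
      rw [← cancel_mono (Si i).ι, Category.assoc, Category.assoc, hrX, hrY, reassoc_of% hsY,
        ← hf, reassoc_of% hcU])
    have hsπ : si ≫ π = Ui.ι := pullback.lift_fst _ _ _
    have hsκ : si ≫ κ₀ = cU ≫ f := by simp [si, κ₀, hsY]
    have hsm : si ≫ m = cU ≫ Γ₀ := by
      apply pullback.hom_ext <;> simp [si, m, Γ₀, hcU, hsY]
    have : QuasiCompact Xi.ι := IdealSh.Extend.quasiCompact_ι (hXo i).isCompact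
    have hVi : IsCompact ((Xi.ι ⁻¹ᵁ V : Xi.toScheme.Opens) : Set Xi.toScheme) :=
      Xi.ι.isCompact_preimage hV
    have hUi : IsCompact (Ui : Set Xi.toScheme) := Xi.ι.isCompact_preimage (by
      rw [Scheme.Hom.coe_image]
      exact (f.isCompact_preimage (hYo i).isCompact).image U.ι.continuous)
    have hcli : closure (Set.range si) ∩ (π ⁻¹ᵁ (Xi.ι ⁻¹ᵁ V) : Set P) ⊆ Set.range si := by
      rintro z ⟨hz, hzV⟩
      have h1 : m z ∈ closure (Set.range Γ₀) := by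
        refine closure_mono ?_ (image_closure_subset_closure_image m.continuous ⟨z, hz, rfl⟩)
        rintro _ ⟨_, ⟨x, rfl⟩, rfl⟩
        exact ⟨cU x, by rw [← Scheme.Hom.comp_apply, ← hsm, Scheme.Hom.comp_apply]⟩
      have hmf : m ≫ pullback.fst pX pY = π ≫ Xi.ι := pullback.lift_fst _ _ _
      have hms : m ≫ pullback.snd pX pY = κ₀ := pullback.lift_snd _ _ _
      have h2 : m z ∈ ((pullback.fst pX pY) ⁻¹ᵁ V : Set Q) := by
        show pullback.fst pX pY (m z) ∈ V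
        rw [← Scheme.Hom.comp_apply, hmf]
        exact hzV
      obtain ⟨x, hx⟩ := hcl' ⟨h1, h2⟩
      have hxX : U.ι x = Xi.ι (π z) := by
        rw [← Scheme.Hom.comp_apply π, ← hmf, Scheme.Hom.comp_apply, ← hx,
          ← Scheme.Hom.comp_apply, pullback.lift_fst]
      have hxY : f x ∈ Yo i := by
        have : f x = κ₀ z := by
          rw [← hms, Scheme.Hom.comp_apply, ← hx, ← Scheme.Hom.comp_apply, pullback.lift_snd]
        rw [this]
        exact (pullback.snd rX rY z).2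
      refine ⟨⟨π z, ⟨x, hxY, hxX⟩⟩, m.isOpenEmbedding.injective ?_⟩
      rw [← Scheme.Hom.comp_apply, hsm, Scheme.Hom.comp_apply, ← hx]
      congr 1
      refine U.ι.isOpenEmbedding.injective ?_
      rw [← Scheme.Hom.comp_apply, hcU, hxX]
      rfl
    obtain ⟨Ki, hKi, hKi'⟩ := QDom.Local.exists_ideal π hUi hVi
      (hUiU.trans (Scheme.Hom.preimage_mono _ hUV)) si hsπ hcli
    obtain ⟨K, hK, hKc⟩ := IdealSh.Extend.exists_extension hV (hXo i).isCompact hKi.1 hKi.2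
    refine ⟨K, hK, ?_⟩
    intro Xt q hdom hqc hcart G ρ κ v hvdom hvqc hvρ hρκ hvκ γ hγX hγY
    let qi := q ∣_ Xi
    let ιi := (q ⁻¹ᵁ Xi).ι
    have hqi : qi ≫ Xi.ι = ιi ≫ q := morphismRestrict_ι _ _
    let O : G.Opens := (ρ ≫ q) ⁻¹ᵁ Xi ⊓ κ ⁻¹ᵁ Yo i
    let ρi : O.toScheme ⟶ (q ⁻¹ᵁ Xi).toScheme := IsOpenImmersion.lift ιi (O.ι ≫ ρ) (by
      rw [Scheme.Opens.range_ι]; rintro _ ⟨x, rfl⟩; exact x.2.1)
    have hρi : ρi ≫ ιi = O.ι ≫ ρ := IsOpenImmersion.lift_fac _ _ _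
    let κY : O.toScheme ⟶ (Yo i).toScheme := IsOpenImmersion.lift (Yo i).ι (O.ι ≫ κ) (by
      rw [Scheme.Opens.range_ι]; rintro _ ⟨x, rfl⟩; exact x.2.2)
    have hκY : κY ≫ (Yo i).ι = O.ι ≫ κ := IsOpenImmersion.lift_fac _ _ _
    let κi : O.toScheme ⟶ P := pullback.lift (ρi ≫ qi) κY (by
      rw [← cancel_mono (Si i).ι]
      simp only [Category.assoc, hrX, hrY, reassoc_of% hqi, reassoc_of% hρi, reassoc_of% hκY, hρκ])
    let Z := v ⁻¹ᵁ O
    let vi := v ∣_ O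
    have hvi : vi ≫ O.ι = Z.ι ≫ v := morphismRestrict_ι _ _
    have : IsSchemeTheoreticallyDominant vi :=
      IsSchemeTheoreticallyDominant.of_isPullback (isPullback_morphismRestrict v O).flip
    have : QuasiCompact vi :=
      MorphismProperty.of_isPullback (isPullback_morphismRestrict v O).flip inferInstance
    have : IsOpenImmersion (vi ≫ ρi) := by
      have : IsOpenImmersion ((vi ≫ ρi) ≫ ιi) := by
        rw [Category.assoc, hρi, reassoc_of% hvi, hvρ]; infer_instance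
      exact IsOpenImmersion.of_comp _ ιi
    let z : Z.toScheme ⟶ Ui.toScheme := IsOpenImmersion.lift (Ui.ι ≫ Xi.ι)
      (Z.ι ≫ (q ∣_ U) ≫ U.ι) (by
      rintro _ ⟨x, rfl⟩
      set u := (q ∣_ U) (Z.ι x)
      have hu : U.ι u = q (ρ (v (Z.ι x))) := by
        rw [← Scheme.Hom.comp_apply, morphismRestrict_ι, ← Scheme.Hom.comp_apply v, hvρ]
        rfl
      have huX : U.ι u ∈ Xi := hu ▸ (x.2.1 : (ρ ≫ q) (v (Z.ι x)) ∈ Xi)
      have huY : f u ∈ Yo i := by
        rw [← Scheme.Hom.comp_apply, ← hvκ, Scheme.Hom.comp_apply]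
        exact x.2.2
      exact ⟨⟨⟨U.ι u, huX⟩, ⟨u, huY, rfl⟩⟩, rfl⟩)
    have hz : z ≫ Ui.ι ≫ Xi.ι = Z.ι ≫ (q ∣_ U) ≫ U.ι := IsOpenImmersion.lift_fac _ _ _
    have hzc : z ≫ cU = Z.ι ≫ (q ∣_ U) := by
      rw [← cancel_mono U.ι, Category.assoc, hcU, hz, Category.assoc]
    have hpre : qi ⁻¹ᵁ (Xi.ι ⁻¹ᵁ V) = ιi ⁻¹ᵁ (q ⁻¹ᵁ V) := by
      rw [← Scheme.Hom.comp_preimage, hqi, Scheme.Hom.comp_preimage]
    have hpb := isPullback_morphismRestrict ιi (q ⁻¹ᵁ V)
    have : IsSchemeTheoreticallyDominant (qi ⁻¹ᵁ (Xi.ι ⁻¹ᵁ V)).ι := by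
      rw [hpre]; exact IsSchemeTheoreticallyDominant.of_isPullback hpb
    have : QuasiCompact (qi ⁻¹ᵁ (Xi.ι ⁻¹ᵁ V)).ι := by
      rw [hpre]; exact MorphismProperty.of_isPullback hpb inferInstance
    have hci : BlowUp.IsEffCartierIdeal (Ki.comap qi) := by
      rw [← hKc, ← Scheme.IdealSheafData.comap_comp, hqi, Scheme.IdealSheafData.comap_comp]
      exact IdealSh.EffCartier.comap_of_flat ιi hcart
    obtain ⟨T, -, hγT, hTUV, hTdom, hTqc, τ, hτ, hτu⟩ := hKi' qi hci ρi κi vi z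
      (pullback.lift_fst _ _ _).symm (by
        rw [← cancel_mono Xi.ι]
        simp only [Category.assoc, hqi, hz, reassoc_of% hρi, reassoc_of% hvi, reassoc_of% hvρ,
          morphismRestrict_ι]) (by
        apply pullback.hom_ext
        · simp only [Category.assoc, κi, si, pullback.lift_fst]
          rw [← cancel_mono Xi.ι]
          simp only [Category.assoc, hqi, hz, reassoc_of% hρi, reassoc_of% hvi, reassoc_of% hvρ,
            morphismRestrict_ι]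
        · simp only [Category.assoc, κi, si, pullback.lift_snd]
          rw [← cancel_mono (Yo i).ι, Category.assoc, Category.assoc, hκY, hsY, reassoc_of% hvi,
            hvκ, reassoc_of% hzc])
      (⟨γ, hγX, hγY⟩ : O.toScheme)
    -- transport the chart to `Xt`
    let T' : Xt.Opens := ιi ''ᵁ T
    have hrT : (T.ι ≫ ιi).opensRange = T' := by
      rw [Scheme.Hom.opensRange_comp, Scheme.Opens.opensRange_ι]
    let e : T'.toScheme ≅ T.toScheme := (ιi.isoImage T).symm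
    have he : e.hom ≫ T.ι ≫ ιi = T'.ι := by
      simp [e, T', ιi]
    let j : T'.toScheme ⟶ Xt := T'.ι
    refine ⟨T', ⟨ρi ⟨γ, hγX, hγY⟩, hγT, congr(($hρi) (⟨γ, hγX, hγY⟩ : O.toScheme))⟩, ?_,
      e.hom ≫ τ ≫ κ₀, ?_, ?_⟩
    · have hsrc : T'.ι ⁻¹ᵁ (q ⁻¹ᵁ U) = e.hom ⁻¹ᵁ ((T.ι ≫ qi) ⁻¹ᵁ Ui) := by
        rw [hTUV, ← he]
        refine TopologicalSpace.Opens.ext (Set.ext fun y => ?_)
        simp only [Scheme.Hom.comp_preimage, TopologicalSpace.Opens.map_coe, Set.mem_preimage,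
          SetLike.mem_coe]
        constructor
        · intro hy
          show Xi.ι (qi (T.ι (e.hom y))) ∈ V
          rw [← Scheme.Hom.comp_apply qi, hqi, Scheme.Hom.comp_apply]
          exact hUV hy
        · intro hy
          have hy' : (T.ι ≫ qi) (e.hom y) ∈ Xi.ι ⁻¹ᵁ V := hy
          have : e.hom y ∈ (T.ι ≫ qi) ⁻¹ᵁ Ui := hTUV.ge hy'
          have := hUiU this
          show q (ιi (T.ι (e.hom y))) ∈ U
          rw [← Scheme.Hom.comp_apply ιi, ← hqi, Scheme.Hom.comp_apply]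
          exact this
      rw [hsrc]
      exact IsSchemeTheoreticallyDominant.of_isPullback
        (isPullback_morphismRestrict e.hom ((T.ι ≫ qi) ⁻¹ᵁ Ui))
    · have h1 : (τ ≫ κ₀) ≫ pY = T.ι ≫ ιi ≫ q ≫ pX := by
        have : π ≫ Xi.ι ≫ pX = κ₀ ≫ pY := by
          simp only [π, κ₀, Category.assoc, ← hrX, ← hrY, pullback.condition_assoc]
        rw [Category.assoc, ← this, reassoc_of% hτ, reassoc_of% hqi]
      rw [Category.assoc, h1, reassoc_of% he]
    · intro W m c hm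
      have hsub : Set.range (m ≫ e.hom ≫ T.ι ≫ qi) ⊆ Set.range Ui.ι := by
        rw [Scheme.Opens.range_ι]
        rintro _ ⟨w, rfl⟩
        have : (m ≫ e.hom) w ∈ (T.ι ≫ qi) ⁻¹ᵁ (Xi.ι ⁻¹ᵁ V) := by
          show Xi.ι ((T.ι ≫ qi) ((m ≫ e.hom) w)) ∈ V
          rw [← Scheme.Hom.comp_apply, ← Scheme.Hom.comp_apply]
          simp only [Category.assoc, hqi, reassoc_of% he, hm]
          exact hUV (c w).2
        exact hTUV.ge this
      let c' := IsOpenImmersion.lift Ui.ι (m ≫ e.hom ≫ T.ι ≫ qi) hsub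
      have hc' : c' ≫ Ui.ι = m ≫ e.hom ≫ T.ι ≫ qi := IsOpenImmersion.lift_fac _ _ _
      have hcc : c' ≫ cU = c := by
        rw [← cancel_mono U.ι, Category.assoc, hcU, reassoc_of% hc']
        simp only [hqi, reassoc_of% he, hm]
      have := hτu (m ≫ e.hom) c' (by rw [hc', Category.assoc])
      rw [← hcc, Category.assoc, ← hsκ, ← reassoc_of% this]
  choose K hKadm hKloc using hone
  obtain ⟨H, hHft, hHsupp⟩ := QDom.Global.exists_support_eq_compl hV
  let 𝓘 := H * ∏ i ∈ t, K i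
  have hprod : BlowUp.IsAdmissibleFor V (∏ i ∈ t, K i) :=
    IdealSh.FinType.admissible_prod V K t hKadm
  have h𝓘 : BlowUp.IsAdmissibleFor V 𝓘 :=
    IdealSh.FinType.admissible_mul ⟨hHft, by rw [hHsupp]; exact disjoint_compl_left⟩ hprod
  obtain ⟨Xt, q, hq⟩ := BlowUp.Glue.exists_isBlowUp X 𝓘
  have hcart := hq.1
  rw [IdealSh.Comap.comap_mul] at hcart
  have hcH := IdealSh.EffCartier.factor_left hcart
  have hcP := IdealSh.EffCartier.factor_right hcart
  have hcK : ∀ i ∈ t, BlowUp.IsEffCartierIdeal ((K i).comap q) := fun i hi => by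
    rw [← Finset.mul_prod_erase t K hi, IdealSh.Comap.comap_mul] at hcP
    exact IdealSh.EffCartier.factor_left hcP
  have : IsProper q := BlowUpProper.Basic.isProper hq h𝓘.1
  have : CompactSpace Xt := QuasiCompact.compactSpace_of_compactSpace q
  have : QuasiSeparatedSpace Xt := quasiSeparatedSpace_of_quasiSeparated q
  have hint : ModPair.interior (H.comap q) = q ⁻¹ᵁ V := by
    refine TopologicalSpace.Opens.ext (Set.ext fun x => ?_)
    show x ∉ (H.comap q).support ↔ q x ∈ V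
    rw [Scheme.IdealSheafData.support_comap]
    show ¬ (q x ∈ (H.support : Set X)) ↔ _
    rw [hHsupp, Set.mem_compl_iff, not_not]
    rfl
  have hVdom : IsSchemeTheoreticallyDominant (q ⁻¹ᵁ V).ι :=
    hint ▸ ModPairLib.Dense.isSchemeTheoreticallyDominant_interior hcH
  have hVqc : QuasiCompact (q ⁻¹ᵁ V).ι :=
    IdealSh.Extend.quasiCompact_ι (q.isCompact_preimage hV)
  have : CompactSpace (q ⁻¹ᵁ U : Xt.Opens).toScheme :=
    isCompact_iff_compactSpace.mp (q.isCompact_preimage hU)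
  -- the closure of the graph
  let U' := q ⁻¹ᵁ U
  have hqU : (q ∣_ U) ≫ U.ι = U'.ι ≫ q := morphismRestrict_ι _ _
  let R := pullback (q ≫ pX) pY
  have : QuasiSeparatedSpace (pullback (q ≫ pX) pY : Scheme.{u}) :=
    quasiSeparatedSpace_of_quasiSeparated (pullback.fst (q ≫ pX) pY)
  let Γ₁ : U'.toScheme ⟶ R := pullback.lift U'.ι ((q ∣_ U) ≫ f) (by
    rw [Category.assoc, ← hf, reassoc_of% hqU])
  have : QuasiCompact Γ₁ := QuasiCompact.of_comp _ (terminal.from R)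
  let v := Γ₁.toImage
  have hvdom : IsSchemeTheoreticallyDominant v := FlatMor.SchDom.toImage_dominant Γ₁ (Or.inl ‹_›)
  have hvqc : QuasiCompact v := by
    have : QuasiCompact (Γ₁.toImage ≫ Γ₁.imageι) := by rw [Γ₁.toImage_imageι]; infer_instance
    exact QuasiCompact.of_comp _ Γ₁.imageι
  let ρ := Γ₁.imageι ≫ pullback.fst (q ≫ pX) pY
  let κ := Γ₁.imageι ≫ pullback.snd (q ≫ pX) pY
  have hvρ : v ≫ ρ = U'.ι := by simp [v, ρ, Γ₁]
  have hvκ : v ≫ κ = (q ∣_ U) ≫ f := by simp [v, κ, Γ₁]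
  have hρκ : ρ ≫ q ≫ pX = κ ≫ pY := by simp [ρ, κ, pullback.condition]
  have hρ : IsOpenImmersion ρ := by
    refine QDom.Global.isOpenImmersion_of_local ρ fun γ => ?_
    let g : R ⟶ Q := pullback.map (q ≫ pX) pY pX pY q (𝟙 Y) (𝟙 S) (by simp) (by simp)
    obtain ⟨i, hi, hmem⟩ : ∃ i ∈ t, g (Γ₁.imageι γ) ∈
        ((pullback.fst pX pY) ⁻¹ᵁ Xo i ⊓ (pullback.snd pX pY) ⁻¹ᵁ Yo i : Q.Opens) := by
      obtain ⟨i, hi, h⟩ := Set.mem_iUnion₂.mp (ht (Set.mem_univ (g (Γ₁.imageι γ))))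
      exact ⟨i, hi, h⟩
    have hγX : q (ρ γ) ∈ Xo i := by
      have : pullback.fst pX pY (g (Γ₁.imageι γ)) ∈ Xo i := hmem.1
      rwa [← Scheme.Hom.comp_apply, show g ≫ pullback.fst pX pY = pullback.fst _ _ ≫ q from
        pullback.lift_fst _ _ _] at this
    have hγY : κ γ ∈ Yo i := by
      have : pullback.snd pX pY (g (Γ₁.imageι γ)) ∈ Yo i := hmem.2
      rwa [← Scheme.Hom.comp_apply, show g ≫ pullback.snd pX pY = pullback.snd _ _ ≫ 𝟙 Y from
        pullback.lift_snd _ _ _, Category.comp_id] at this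
    obtain ⟨T, hγT, hTdom, τ, hτ, hτu⟩ :=
      hKloc i q hVdom hVqc (hcK i hi) ρ κ v hvdom hvqc hvρ hρκ hvκ γ hγX hγY
    let σ : T.toScheme ⟶ R := pullback.lift T.ι τ hτ.symm
    let ZT := T.ι ⁻¹ᵁ U'
    let mU : ZT.toScheme ⟶ U'.toScheme := T.ι ∣_ U'
    have hmU : mU ≫ U'.ι = ZT.ι ≫ T.ι := morphismRestrict_ι _ _
    obtain ⟨l, hl⟩ := QDom.Global.exists_factor Γ₁.imageι σ ZT.ι (mU ≫ v) (by
      rw [Category.assoc, Γ₁.toImage_imageι]
      apply pullback.hom_ext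
      · simp [σ, Γ₁, hmU]
      · simp only [σ, Γ₁, Category.assoc, pullback.lift_snd]
        rw [hτu ZT.ι (mU ≫ (q ∣_ U)) (by rw [Category.assoc, hqU, reassoc_of% hmU]),
          Category.assoc])
    have hlρ : l ≫ ρ = T.ι := by simp [ρ, reassoc_of% hl, σ]
    have hlκ : l ≫ κ = τ := by simp [κ, reassoc_of% hl, σ]
    refine ⟨T, hγT, ?_⟩
    let GT := ρ ⁻¹ᵁ T
    let lT : T.toScheme ⟶ GT.toScheme := IsOpenImmersion.lift GT.ι l (by
      rw [Scheme.Opens.range_ι]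
      rintro _ ⟨x, rfl⟩
      show ρ (l x) ∈ T
      rw [← Scheme.Hom.comp_apply, hlρ]
      exact x.2)
    have hlT : lT ≫ GT.ι = l := IsOpenImmersion.lift_fac _ _ _
    have hρT : (ρ ∣_ T) ≫ T.ι = GT.ι ≫ ρ := morphismRestrict_ι _ _
    have hpbv := (isPullback_morphismRestrict v GT).flip
    have : IsSchemeTheoreticallyDominant (v ∣_ GT) :=
      IsSchemeTheoreticallyDominant.of_isPullback hpbv
    have hκT : GT.ι ≫ κ = (ρ ∣_ T) ≫ τ := by
      refine GrpScheme.Ext.ext_of_schematicallyDominant (v ∣_ GT) pY ?_ ?_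
      · simp only [Category.assoc, hτ, ← hρκ, reassoc_of% hρT]
      · rw [reassoc_of% (morphismRestrict_ι v GT), hvκ,
          ← Category.assoc (v ∣_ GT) (ρ ∣_ T) τ,
          hτu ((v ∣_ GT) ≫ (ρ ∣_ T)) ((v ⁻¹ᵁ GT).ι ≫ (q ∣_ U)) (by
            simp only [Category.assoc, hqU, reassoc_of% hρT,
              reassoc_of% (morphismRestrict_ι v GT), reassoc_of% hvρ]),
          Category.assoc]
    refine ⟨lT, ?_, ?_⟩
    · rw [← cancel_mono GT.ι, Category.assoc, hlT, Category.id_comp, ← cancel_mono Γ₁.imageι,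
        Category.assoc, hl]
      apply pullback.hom_ext
      · simp [σ, hρT, ρ]
      · simp only [σ, Category.assoc, pullback.lift_snd]
        exact hκT.symm
    · rw [← cancel_mono T.ι, Category.assoc, hρT, reassoc_of% hlT, hlρ, Category.id_comp]
  have hle : q ⁻¹ᵁ U ≤ ρ.opensRange := fun x hx => ⟨v ⟨x, hx⟩, by
    rw [← Scheme.Hom.comp_apply, hvρ]; rfl⟩
  have he : ρ.isoOpensRange.inv ≫ ρ = ρ.opensRange.ι := Scheme.Hom.isoOpensRange_inv_comp ρ
  have hsupp : (𝓘.support : Set X) = (V : Set X)ᶜ := by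
    refine Set.Subset.antisymm (fun x hx hxV => h𝓘.2.le_bot ⟨hx, hxV⟩) fun x hx => ?_
    show x ∈ ((H * ∏ i ∈ t, K i).support : Set X)
    rw [Scheme.IdealSheafData.support_mul, TopologicalSpace.Closeds.coe_sup]
    exact Or.inl (hHsupp.ge hx)
  have hdom' : IsSchemeTheoreticallyDominant (Xt.homOfLE hle) := by
    have : Xt.homOfLE hle = v ≫ ρ.isoOpensRange.hom := by
      rw [← Iso.comp_inv_eq, ← cancel_mono ρ, Category.assoc, he, Scheme.homOfLE_ι, hvρ]
    rw [this]; infer_instance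
  refine ⟨𝓘, Xt, q, hq, h𝓘, hsupp, ρ.opensRange, hle, ρ.isoOpensRange.inv ≫ κ, ?_, ?_, ?_,
    hdom'⟩
  · rw [Category.assoc, ← hρκ, reassoc_of% he]
  · have : Xt.homOfLE hle ≫ ρ.isoOpensRange.inv = v := by
      rw [← cancel_mono ρ, Category.assoc, he, Scheme.homOfLE_ι, hvρ]
    rw [reassoc_of% this, hvκ]
  · have hfac : pullback.lift (f := q ≫ pX) (g := pY) ρ.opensRange.ι (ρ.isoOpensRange.inv ≫ κ)
        (by rw [Category.assoc, ← hρκ, reassoc_of% he]) = ρ.isoOpensRange.inv ≫ Γ₁.imageι := by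
      apply pullback.hom_ext
      · rw [pullback.lift_fst, Category.assoc]; exact he.symm
      · rw [pullback.lift_snd, Category.assoc]
    rw [hfac]
    have : Set.range (ρ.isoOpensRange.inv ≫ Γ₁.imageι) = Set.range Γ₁.imageι := by
      refine Set.Subset.antisymm ?_ ?_
      · rintro _ ⟨x, rfl⟩
        exact ⟨ρ.isoOpensRange.inv x, rfl⟩
      · rintro _ ⟨x, rfl⟩
        obtain ⟨y, hy⟩ := ρ.isoOpensRange.inv.homeomorph.surjective x
        exact ⟨y, congrArg Γ₁.imageι hy⟩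
    rw [this]
    exact Γ₁.imageι.isClosedEmbedding.isClosed_range


/-- A quasi-domination of `V` extends, after blowing up a finite type ideal with support exactly the
complement of `V`, to a schematically dense open with closed graph. -/
theorem exists_extension
    {S X Y : Scheme.{u}} [CompactSpace S] [QuasiSeparatedSpace S]
    [CompactSpace X] [QuasiSeparatedSpace X] [CompactSpace Y] [QuasiSeparatedSpace Y]
    (pX : X ⟶ S) (pY : Y ⟶ S) [IsSeparated pY] [LocallyOfFiniteType pY]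
    (U V : X.Opens) (hUV : U ≤ V) (hU : IsCompact (U : Set X)) (hV : IsCompact (V : Set X))
    (hUd : Dense (U : Set X))
    (f : (U : Scheme.{u}) ⟶ Y) (hf : U.ι ≫ pX = f ≫ pY)
    (hcl : closure (Set.range (fun x => pullback.lift U.ι f hf x)) ∩
        ((pullback.fst pX pY) ⁻¹ᵁ V : Set ↥(pullback pX pY)) ⊆ Set.range (fun x => pullback.lift U.ι f hf x)) :
    ∃ (𝓘 : X.IdealSheafData) (Xt : Scheme.{u}) (q : Xt ⟶ X),
      BlowUp.IsBlowUp q 𝓘 ∧ BlowUp.IsAdmissibleFor V 𝓘 ∧ (𝓘.support : Set X) = (V : Set X)ᶜ ∧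
      ∃ (W : Xt.Opens) (hle : q ⁻¹ᵁ U ≤ W) (ft : (W : Scheme.{u}) ⟶ Y) (hft : W.ι ≫ q ≫ pX = ft ≫ pY),
        Dense (W : Set Xt) ∧ Xt.homOfLE hle ≫ ft = (q ∣_ U) ≫ f ∧
        IsClosed (Set.range (fun x => pullback.lift W.ι ft hft x)) ∧
        IsSchemeTheoreticallyDominant (Xt.homOfLE hle) := by
  obtain ⟨𝓘, Xt, q, hq, h𝓘, hsupp, W, hle, ft, hft, hag, hcl, hdom⟩ :=
    exists_extension' pX pY U V hUV hU hV f hf hcl
  refine ⟨𝓘, Xt, q, hq, h𝓘, hsupp, W, hle, ft, hft, Dense.mono hle ?_, hag, hcl, hdom⟩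
  have : IsProper q := BlowUpProper.Basic.isProper hq h𝓘.1
  have : CompactSpace Xt := QuasiCompact.compactSpace_of_compactSpace q
  have : QuasiSeparatedSpace Xt := quasiSeparatedSpace_of_quasiSeparated q
  have : QuasiCompact (q ⁻¹ᵁ V).ι :=
    IdealSh.Extend.quasiCompact_ι (q.isCompact_preimage hV)
  have hint : ModPair.interior (𝓘.comap q) = q ⁻¹ᵁ V := by
    refine TopologicalSpace.Opens.ext (Set.ext fun x => ?_)
    show x ∉ (𝓘.comap q).support ↔ q x ∈ V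
    rw [Scheme.IdealSheafData.support_comap]
    show ¬ (q x ∈ (𝓘.support : Set X)) ↔ _
    rw [hsupp, Set.mem_compl_iff, not_not]
    rfl
  have : IsSchemeTheoreticallyDominant (q ⁻¹ᵁ V).ι :=
    hint ▸ ModPairLib.Dense.isSchemeTheoreticallyDominant_interior hq.1
  have hiso := BlowUp.Basic.isIso_restrict hq V h𝓘.2.symm
  have : IsDominant (q ⁻¹ᵁ V).ι := inferInstance
  have hVd : Dense ((q ⁻¹ᵁ V : Xt.Opens) : Set Xt) := by
    have := (q ⁻¹ᵁ V).ι.denseRange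
    rwa [DenseRange, Scheme.Opens.range_ι] at this
  refine dense_iff_inter_open.mpr fun O hO hne => ?_
  obtain ⟨x, hxO, hxV⟩ := dense_iff_inter_open.mp hVd O hO hne
  let e := q ∣_ V
  have hopen : IsOpen ((e ≫ V.ι) '' ((q ⁻¹ᵁ V).ι ⁻¹' O)) :=
    (e ≫ V.ι).isOpenEmbedding.isOpenMap _ (hO.preimage (q ⁻¹ᵁ V).ι.continuous)
  obtain ⟨y, ⟨w, hw, rfl⟩, hyU⟩ := hUd.inter_open_nonempty _ hopen
    ⟨_, ⟨x, hxV⟩, hxO, rfl⟩
  refine ⟨(q ⁻¹ᵁ V).ι w, hw, ?_⟩
  show q ((q ⁻¹ᵁ V).ι w) ∈ U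
  rw [← Scheme.Hom.comp_apply, ← morphismRestrict_ι]
  exact hyU

end Groth.Agent.QDom.Main
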