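import Groth.Agent.QDom.Main
import Groth.Agent.IdealSh.FinType

/-!
# A separated birational morphism becomes an open immersion after blowing up
-/

set_option autoImplicit false
set_option maxHeartbeats 1000000
set_option backward.isDefEq.respectTransparency false
set_option backward.defeqAttrib.useBackward true

universe u

open CategoryTheory CategoryTheory.Limits AlgebraicGeometry TopologicalSpace
open Groth.Agent.IdealSh

namespace Groth.Agent.QDom.Birational

/-- If `f : X ⟶ Y` is separated of finite type and an isomorphism over the dense quasi-compact open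
`U`, some blow-up `c` of `Y` in an ideal with support `Uᶜ` contains the blow-up of `X` in the
pulled back ideal as an open subscheme, with closed graph. -/
theorem exists_blowUp {X Y : Scheme.{u}} [CompactSpace Y] [QuasiSeparatedSpace Y]
    (f : X ⟶ Y) [IsSeparated f] [QuasiCompact f] [LocallyOfFiniteType f]
    (U : Y.Opens) (hU : IsCompact (U : Set Y)) (hUd : Dense (U : Set Y)) [IsIso (f ∣_ U)] :
    ∃ (𝓙 : Y.IdealSheafData) (Y' : Scheme.{u}) (c : Y' ⟶ Y) (W : Y'.Opens)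
      (b : W.toScheme ⟶ X) (hb : W.ι ≫ c = b ≫ f),
      BlowUp.IsBlowUp c 𝓙 ∧ BlowUp.IsAdmissibleFor U 𝓙 ∧ (𝓙.support : Set Y) = (U : Set Y)ᶜ ∧
      BlowUp.IsBlowUp b (𝓙.comap f) ∧ c ⁻¹ᵁ U ≤ W ∧ Dense (W : Set Y') ∧
      IsClosed (Set.range (pullback.lift W.ι b hb)) := by
  have : CompactSpace X := QuasiCompact.compactSpace_of_compactSpace f
  have : QuasiSeparatedSpace X := quasiSeparatedSpace_of_quasiSeparated f
  let s : U.toScheme ⟶ X := inv (f ∣_ U) ≫ (f ⁻¹ᵁ U).ι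
  have hs : U.ι ≫ 𝟙 Y = s ≫ f := by
    rw [Category.comp_id, Category.assoc, ← morphismRestrict_ι, IsIso.inv_hom_id_assoc]
  have hmono : ∀ {T : Scheme.{u}} (g g' : T ⟶ (f ⁻¹ᵁ U).toScheme),
      g ≫ (f ∣_ U) = g' ≫ (f ∣_ U) → g = g' := fun g g' h => (cancel_mono (f ∣_ U)).mp h
  have hcl : closure (Set.range (fun x => pullback.lift U.ι s hs x)) ∩
      ((pullback.fst (𝟙 Y) f) ⁻¹ᵁ U : Set ↥(pullback (𝟙 Y) f)) ⊆
        Set.range (fun x => pullback.lift U.ι s hs x) := by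
    rintro z ⟨-, hz⟩
    have hzf : f (pullback.snd (𝟙 Y) f z) = pullback.fst (𝟙 Y) f z := by
      rw [← Scheme.Hom.comp_apply, ← pullback.condition, Category.comp_id]
    let w : (f ⁻¹ᵁ U).toScheme := ⟨pullback.snd (𝟙 Y) f z, show f _ ∈ U from hzf ▸ hz⟩
    refine ⟨(f ∣_ U) w, (pullback.snd (𝟙 Y) f).homeomorph.injective ?_⟩
    show pullback.snd (𝟙 Y) f (pullback.lift U.ι s hs ((f ∣_ U) w)) = pullback.snd (𝟙 Y) f z
    rw [← Scheme.Hom.comp_apply, pullback.lift_snd, ← Scheme.Hom.comp_apply,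
      IsIso.hom_inv_id_assoc]
    rfl
  obtain ⟨𝓙, Y', c, hc, hadm, hsupp, W, hle, b, hb', hWd, hagree, hclosed, hdom⟩ :=
    QDom.Main.exists_extension (𝟙 Y) f U U le_rfl hU hU hUd s hs hcl
  have hb : W.ι ≫ c = b ≫ f := by rw [← hb', Category.comp_id]
  let Γ := pullback.lift (f := c ≫ 𝟙 Y) (g := f) W.ι b hb'
  have : IsImmersion (Γ ≫ pullback.fst (c ≫ 𝟙 Y) f) := by
    rw [pullback.lift_fst]; infer_instance
  have : IsImmersion Γ := IsImmersion.of_comp Γ (pullback.fst (c ≫ 𝟙 Y) f)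
  have : IsClosedImmersion Γ := IsClosedImmersion.of_isPreimmersion _ hclosed
  have hcart : BlowUp.IsEffCartierIdeal ((𝓙.comap f).comap b) := by
    rw [← Scheme.IdealSheafData.comap_comp, ← hb, Scheme.IdealSheafData.comap_comp]
    exact EffCartier.comap_of_flat W.ι hc.1
  refine ⟨𝓙, Y', c, W, b, hb, hc, hadm, hsupp, ⟨hcart, fun T g hg => ?_⟩, hle, hWd, ?_⟩
  · obtain ⟨h, hh, hhu⟩ := hc.2 T (g ≫ f) (by rwa [Scheme.IdealSheafData.comap_comp])
    let T₀ : T.Opens := ModPair.interior ((𝓙.comap f).comap g)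
    have : IsSchemeTheoreticallyDominant T₀.ι :=
      ModPairLib.Dense.isSchemeTheoreticallyDominant_interior hg
    have hT₀U : ∀ t : T₀, f (g (T₀.ι t)) ∈ U := fun t => by
      by_contra ht
      refine t.2 ?_
      rw [Scheme.IdealSheafData.support_comap, Scheme.IdealSheafData.support_comap]
      show f (g (T₀.ι t)) ∈ (𝓙.support : Set Y)
      rw [hsupp]
      exact ht
    let lU : T₀.toScheme ⟶ (c ⁻¹ᵁ U).toScheme :=
      IsOpenImmersion.lift (c ⁻¹ᵁ U).ι (T₀.ι ≫ h) (by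
        rw [Scheme.Opens.range_ι]
        rintro _ ⟨t, rfl⟩
        show c (h (T₀.ι t)) ∈ U
        rw [← Scheme.Hom.comp_apply h, hh, Scheme.Hom.comp_apply]
        exact hT₀U t)
    have hlU : lU ≫ (c ⁻¹ᵁ U).ι = T₀.ι ≫ h := IsOpenImmersion.lift_fac _ _ _
    let lg : T₀.toScheme ⟶ (f ⁻¹ᵁ U).toScheme :=
      IsOpenImmersion.lift (f ⁻¹ᵁ U).ι (T₀.ι ≫ g) (by
        rw [Scheme.Opens.range_ι]; rintro _ ⟨t, rfl⟩; exact hT₀U t)
    have hlg : lg ≫ (f ⁻¹ᵁ U).ι = T₀.ι ≫ g := IsOpenImmersion.lift_fac _ _ _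
    have hlg' : lg = lU ≫ (c ∣_ U) ≫ inv (f ∣_ U) := by
      refine hmono _ _ ?_
      rw [Category.assoc, Category.assoc, IsIso.inv_hom_id, Category.comp_id,
        ← cancel_mono U.ι, Category.assoc, morphismRestrict_ι, reassoc_of% hlg, Category.assoc,
        morphismRestrict_ι, reassoc_of% hlU, hh]
    have hk₂ : lU ≫ Y'.homOfLE hle ≫ b = T₀.ι ≫ g := by
      rw [hagree, ← hlg, hlg']
      simp [s]
    obtain ⟨l, hl⟩ := QDom.Global.exists_factor Γ (pullback.lift h g (by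
        rw [Category.comp_id, hh])) T₀.ι (lU ≫ Y'.homOfLE hle) (by
      apply pullback.hom_ext
      · simp [Γ, hlU]
      · simp only [Γ, Category.assoc, pullback.lift_snd]
        exact hk₂.symm)
    have hl₁ : l ≫ W.ι = h := by simpa [Γ] using hl =≫ pullback.fst _ _
    have hl₂ : l ≫ b = g := by simpa [Γ] using hl =≫ pullback.snd _ _
    refine ⟨l, hl₂, fun l' hl' => ?_⟩
    rw [← cancel_mono W.ι, hl₁]
    refine hhu _ ?_
    show (l' ≫ W.ι) ≫ c = g ≫ f
    rw [Category.assoc, hb, reassoc_of% hl']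
  · let e := pullback.congrHom (Category.comp_id c) (rfl : f = f)
    have he : pullback.lift W.ι b hb = Γ ≫ e.hom := by
      apply pullback.hom_ext <;> simp [Γ, e]
    rw [he, Scheme.Hom.comp_base, TopCat.coe_comp, Set.range_comp]
    exact e.hom.homeomorph.isClosedMap _ hclosed

end Groth.Agent.QDom.Birational
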