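import Groth.Agent.QDom.Local
import Groth.Agent.IdealSh.Extend
import Groth.Agent.ModPairLib.Dense
import Mathlib.AlgebraicGeometry.Morphisms.OpenImmersion

/-!
# Helpers for gluing extensions of quasi-dominations
-/

set_option autoImplicit false
set_option backward.isDefEq.respectTransparency false
set_option backward.defeqAttrib.useBackward true

universe u

open CategoryTheory CategoryTheory.Limits AlgebraicGeometry TopologicalSpace
open Groth.Agent.IdealSh

namespace Groth.Agent.QDom.Global

variable {X Y : Scheme.{u}}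

/-- A morphism factoring through a closed immersion on a schematically dense part factors through it. -/
lemma exists_factor {T' T Z P : Scheme.{u}} (i : Z ⟶ P) [IsClosedImmersion i] (g : T ⟶ P)
    (d : T' ⟶ T) [IsSchemeTheoreticallyDominant d] (k : T' ⟶ Z) (hk : d ≫ g = k ≫ i) :
    ∃ l : T ⟶ Z, l ≫ i = g := by
  have hfac : pullback.lift d k hk ≫ pullback.fst g i = d := pullback.lift_fst _ _ _
  have hker : (pullback.fst g i).ker = ⊥ := by
    rw [← le_bot_iff, ← IsSchemeTheoreticallyDominant.ker_eq_bot d]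
    conv_rhs => rw [← hfac]
    exact Scheme.Hom.le_ker_comp _ _
  have : IsIso (pullback.fst g i) := IsClosedImmersion.isIso_iff_ker_eq_bot.mpr hker
  exact ⟨inv (pullback.fst g i) ≫ pullback.snd g i, by
    rw [Category.assoc, ← pullback.condition, IsIso.inv_hom_id_assoc]⟩

/-- A finite type ideal with prescribed quasi-compact complement of its support. -/
lemma exists_support_eq_compl [CompactSpace X] [QuasiSeparatedSpace X] {V : X.Opens}
    (hV : IsCompact (V : Set X)) :
    ∃ H : X.IdealSheafData, BlowUp.IsFiniteTypeIdeal H ∧ (H.support : Set X) = (V : Set X)ᶜ := by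
  let C : Closeds X := ⟨(V : Set X)ᶜ, V.2.isClosed_compl⟩
  let J := Scheme.IdealSheafData.vanishingIdeal C
  have hJ : (J.support : Set X) = (V : Set X)ᶜ := by
    show ((Scheme.IdealSheafData.vanishingIdeal C).support : Set X) = _
    rw [Scheme.IdealSheafData.coe_support_vanishingIdeal]
    rfl
  have htop : ∀ T : X.affineOpens, T.1 ≤ V → J.ideal T = ⊤ :=
    Extend.ideal_eq_top_of_disjoint (by rw [hJ]; exact disjoint_compl_left)
  obtain ⟨H, h1, h2, h3⟩ := Extend.exists_finiteType (𝓙 := J) hV
    fun T hT => by rw [htop T hT]; exact ⟨{1}, by simp⟩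
  refine ⟨H, h1, Set.Subset.antisymm ?_ ?_⟩
  · intro x hx hxV
    obtain ⟨T, hxT, hT⟩ := Comap.exists_affine_le x V hxV
    rw [SetLike.mem_coe, Scheme.IdealSheafData.mem_support_iff_of_mem hxT, h3 T hT, htop T hT,
      Scheme.mem_zeroLocus_iff] at hx
    exact hx 1 trivial (by simpa using hxT)
  · rw [← hJ]
    exact Scheme.IdealSheafData.support_antitone h2

/-- A morphism which is, near every point of its image, an isomorphism over the target is an open
immersion. -/
lemma isOpenImmersion_of_local (f : X ⟶ Y)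
    (h : ∀ x : X, ∃ W : Y.Opens, f x ∈ W ∧ IsIso (f ∣_ W)) : IsOpenImmersion f := by
  choose W hW hiso using h
  have hι : ∀ x, IsOpenImmersion ((f ⁻¹ᵁ W x).ι ≫ f) := fun x => by
    have := hiso x
    rw [← morphismRestrict_ι]
    infer_instance
  have hinj : Function.Injective f := by
    intro a b hab
    have := hι a
    have h1 : a ∈ f ⁻¹ᵁ W a := hW a
    have h2 : b ∈ f ⁻¹ᵁ W a := show f b ∈ W a from hab ▸ hW a
    exact congrArg Subtype.val
      (((f ⁻¹ᵁ W a).ι ≫ f).isOpenEmbedding.injective (a₁ := ⟨a, h1⟩) (a₂ := ⟨b, h2⟩) hab)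
  have hopen : IsOpenMap f := by
    intro O hO
    rw [isOpen_iff_mem_nhds]
    rintro _ ⟨a, ha, rfl⟩
    have := hι a
    refine Filter.mem_of_superset ((((f ⁻¹ᵁ W a).ι ≫ f).isOpenEmbedding.isOpenMap _
      (hO.preimage (f ⁻¹ᵁ W a).ι.continuous)).mem_nhds ⟨⟨a, hW a⟩, ha, rfl⟩) ?_
    rintro _ ⟨w, hw, rfl⟩
    exact ⟨_, hw, rfl⟩
  have : ∀ x, IsIso (f.stalkMap x) := fun x => by
    have := hι x
    have h3 : IsIso (((f ⁻¹ᵁ W x).ι ≫ f).stalkMap ⟨x, hW x⟩) := inferInstance
    rw [Scheme.Hom.stalkMap_comp] at h3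
    exact @IsIso.of_isIso_comp_right _ _ _ _ _ (f.stalkMap x) ((f ⁻¹ᵁ W x).ι.stalkMap ⟨x, hW x⟩)
      inferInstance h3
  exact IsOpenImmersion.of_isIso_stalkMap f
    (Topology.IsOpenEmbedding.of_continuous_injective_isOpenMap f.continuous hinj hopen)

end Groth.Agent.QDom.Global
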