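import Groth.Agent.QDom.Birational
import Groth.Agent.BlowComp.Main
import Groth.Agent.IdealSh.Extend
import Groth.Agent.S17890

/-!
# Two compactification candidates glue after admissible blow-ups
-/

set_option autoImplicit false
set_option maxHeartbeats 2000000
set_option backward.isDefEq.respectTransparency false
set_option backward.defeqAttrib.useBackward true

universe u

namespace Groth.Agent.QDom.Pair

open AlgebraicGeometry CategoryTheory Limits TopologicalSpace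

/-- The lift of an open immersion to a blow-up in an ideal with support the complement of its
range. -/
lemma exists_lift {U X X' : Scheme.{u}} (j : U ⟶ X) [IsOpenImmersion j] [CompactSpace U]
    [QuasiSeparatedSpace X'] {c : X' ⟶ X} {𝓙 : X.IdealSheafData} (hc : BlowUp.IsBlowUp c 𝓙)
    (hs : (𝓙.support : Set X) = (j.opensRange : Set X)ᶜ) :
    ∃ u : U ⟶ X', u ≫ c = j ∧ IsOpenImmersion u ∧ IsSchemeTheoreticallyDominant u ∧
      QuasiCompact u ∧ Set.range u ⊆ (c ⁻¹ᵁ j.opensRange : X'.Opens) := by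
  have := BlowUp.Basic.isIso_restrict hc j.opensRange (by rw [hs]; exact disjoint_compl_right)
  let ι := (c ⁻¹ᵁ j.opensRange).ι
  let u := (j.isoOpensRange.hom ≫ inv (c ∣_ j.opensRange)) ≫ ι
  have hint : ModPair.interior (𝓙.comap c) = c ⁻¹ᵁ j.opensRange := by
    refine Opens.ext (Set.ext fun x => ?_)
    show x ∉ (𝓙.comap c).support ↔ c x ∈ j.opensRange
    rw [Scheme.IdealSheafData.support_comap]
    show ¬ (c x ∈ (𝓙.support : Set X)) ↔ _
    rw [hs, Set.mem_compl_iff, not_not]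
    rfl
  have : IsSchemeTheoreticallyDominant ι := by
    show IsSchemeTheoreticallyDominant (c ⁻¹ᵁ j.opensRange).ι
    rw [← hint]
    exact ModPairLib.Dense.isSchemeTheoreticallyDominant_interior hc.1
  refine ⟨u, ?_, inferInstance, inferInstance, QuasiCompact.of_comp _ (terminal.from X'), ?_⟩
  · simp only [u, ι, Category.assoc]
    rw [← morphismRestrict_ι, IsIso.inv_hom_id_assoc, Scheme.Hom.isoOpensRange_hom_ι]
  · rintro _ ⟨x, rfl⟩
    exact ((j.isoOpensRange.hom ≫ inv (c ∣_ j.opensRange)) x).2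

/-- A proper morphism from an open of a separated scheme has closed graph. -/
lemma isClosed_range_graph {S X Z W : Scheme.{u}} (o : W ⟶ X) (q : X ⟶ S) [IsSeparated q]
    (g : Z ⟶ S) (p : W ⟶ Z) [IsProper p] (hp : o ≫ q = p ≫ g) :
    IsClosed (Set.range (pullback.lift o p hp)) := by
  have : IsProper (pullback.lift o p hp ≫ pullback.snd q g) := by
    rw [pullback.lift_snd]; infer_instance
  have := IsProper.of_comp (pullback.lift o p hp) (pullback.snd q g)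
  exact (pullback.lift o p hp).isClosedMap.isClosed_range


/-- Two schemes containing `U` as a dense open glue to a separated scheme after blowing up ideals
with support exactly the complements of `U`. -/
theorem exists_glue {S U X₁ X₂ : Scheme.{u}} [CompactSpace S] [QuasiSeparatedSpace S]
    (g₁ : X₁ ⟶ S) (g₂ : X₂ ⟶ S)
    [IsSeparated g₁] [QuasiCompact g₁] [LocallyOfFiniteType g₁]
    [IsSeparated g₂] [QuasiCompact g₂] [LocallyOfFiniteType g₂]
    (j₁ : U ⟶ X₁) (j₂ : U ⟶ X₂) [IsOpenImmersion j₁] [IsOpenImmersion j₂] [IsDominant j₁] [IsDominant j₂]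
    [CompactSpace U]
    (h : j₁ ≫ g₁ = j₂ ≫ g₂) :
    ∃ (Y : Scheme.{u}) (q : Y ⟶ S) (_ : IsSeparated q) (_ : QuasiCompact q) (_ : LocallyOfFiniteType q)
      (A : Scheme.{u}) (a : A ⟶ X₁) (B : Scheme.{u}) (b : B ⟶ X₂) (iA : A ⟶ Y) (iB : B ⟶ Y)
      (uA : U ⟶ A) (uB : U ⟶ B),
      (∃ 𝓛 : X₁.IdealSheafData, BlowUp.IsBlowUp a 𝓛 ∧ BlowUp.IsFiniteTypeIdeal 𝓛 ∧
        (𝓛.support : Set X₁) = (j₁.opensRange : Set X₁)ᶜ) ∧
      (∃ 𝓜 : X₂.IdealSheafData, BlowUp.IsBlowUp b 𝓜 ∧ BlowUp.IsFiniteTypeIdeal 𝓜 ∧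
        (𝓜.support : Set X₂) = (j₂.opensRange : Set X₂)ᶜ) ∧
      IsOpenImmersion iA ∧ IsOpenImmersion iB ∧ Set.range iA ∪ Set.range iB = Set.univ ∧
      uA ≫ a = j₁ ∧ uB ≫ b = j₂ ∧ uA ≫ iA = uB ≫ iB ∧ iA ≫ q = a ≫ g₁ ∧ iB ≫ q = b ≫ g₂ ∧
      IsOpenImmersion (uA ≫ iA) ∧ IsSchemeTheoreticallyDominant (uA ≫ iA) ∧
      QuasiCompact (uA ≫ iA) := by
  have : QuasiSeparatedSpace X₁ := quasiSeparatedSpace_of_quasiSeparated g₁
  have : QuasiSeparatedSpace X₂ := quasiSeparatedSpace_of_quasiSeparated g₂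
  have : CompactSpace X₁ := QuasiCompact.compactSpace_of_compactSpace g₁
  have : CompactSpace X₂ := QuasiCompact.compactSpace_of_compactSpace g₂
  let U₁ := j₁.opensRange
  let U₂ := j₂.opensRange
  have hU₁ : IsCompact (U₁ : Set X₁) := isCompact_range j₁.continuous
  have hU₂ : IsCompact (U₂ : Set X₂) := isCompact_range j₂.continuous
  have hd₁ : Dense (U₁ : Set X₁) := j₁.denseRange
  have hd₂ : Dense (U₂ : Set X₂) := j₂.denseRange
  let f : U₁.toScheme ⟶ X₂ := j₁.isoOpensRange.inv ≫ j₂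
  have hf : U₁.ι ≫ g₁ = f ≫ g₂ := by
    rw [← Scheme.Hom.isoOpensRange_inv_comp j₁, Category.assoc, h, Category.assoc]
  have hcl : closure (Set.range (fun x => pullback.lift U₁.ι f hf x)) ∩
      ((pullback.fst g₁ g₂) ⁻¹ᵁ U₁ : Set ↥(pullback g₁ g₂)) ⊆
        Set.range (fun x => pullback.lift U₁.ι f hf x) := by
    rintro z ⟨hz, hzU⟩
    let D := (pullback.fst g₁ g₂) ⁻¹ᵁ U₁
    let σ : U₁.toScheme ⟶ D.toScheme := IsOpenImmersion.lift D.ι (pullback.lift U₁.ι f hf) (by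
      rw [Scheme.Opens.range_ι]
      rintro _ ⟨x, rfl⟩
      show pullback.fst g₁ g₂ (pullback.lift U₁.ι f hf x) ∈ U₁
      rw [← Scheme.Hom.comp_apply, pullback.lift_fst]
      exact x.2)
    have hσ : σ ≫ D.ι = pullback.lift U₁.ι f hf := IsOpenImmersion.lift_fac _ _ _
    have hsec : σ ≫ ((pullback.fst g₁ g₂) ∣_ U₁) = 𝟙 _ := by
      rw [← cancel_mono U₁.ι, Category.assoc, morphismRestrict_ι, reassoc_of% hσ,
        pullback.lift_fst, Category.id_comp]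
    have : IsClosedImmersion (σ ≫ ((pullback.fst g₁ g₂) ∣_ U₁)) := hsec ▸ inferInstance
    have : IsClosedImmersion σ := IsClosedImmersion.of_comp σ ((pullback.fst g₁ g₂) ∣_ U₁)
    have hmem : (⟨z, hzU⟩ : D.toScheme) ∈ closure (Set.range σ) := by
      refine closure_subtype.mpr ?_
      refine closure_mono ?_ hz
      rintro _ ⟨x, rfl⟩
      exact ⟨σ x, ⟨x, rfl⟩, congr(($hσ) x)⟩
    rw [σ.isClosedEmbedding.isClosed_range.closure_eq] at hmem
    obtain ⟨x, hx⟩ := hmem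
    exact ⟨x, (congr(($hσ) x)).symm.trans (congrArg Subtype.val hx)⟩
  obtain ⟨𝓘₁, X₁', q₁, hq₁, hadm₁, hsupp₁, W₁, hle₁, f₁, hf₁, -, hagree, hcl₁, hdom₁⟩ :=
    QDom.Main.exists_extension g₁ g₂ U₁ U₁ le_rfl hU₁ hU₁ hd₁ f hf hcl
  have : IsProper q₁ := BlowUpProper.Basic.isProper hq₁ hadm₁.1
  have : CompactSpace X₁' := QuasiCompact.compactSpace_of_compactSpace q₁
  have : QuasiSeparatedSpace X₁' := quasiSeparatedSpace_of_quasiSeparated q₁
  let P₁ := pullback (q₁ ≫ g₁) g₂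
  let Γ₁ := pullback.lift (f := q₁ ≫ g₁) (g := g₂) W₁.ι f₁ hf₁
  have : IsImmersion (Γ₁ ≫ pullback.fst (q₁ ≫ g₁) g₂) := by
    rw [pullback.lift_fst]; infer_instance
  have : IsImmersion Γ₁ := IsImmersion.of_comp Γ₁ (pullback.fst (q₁ ≫ g₁) g₂)
  have : IsClosedImmersion Γ₁ := IsClosedImmersion.of_isPreimmersion _ hcl₁
  have hf₁' : f₁ = Γ₁ ≫ pullback.snd (q₁ ≫ g₁) g₂ := (pullback.lift_snd _ _ _).symm
  have : IsSeparated f₁ := by rw [hf₁']; infer_instance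
  have : QuasiCompact f₁ := by rw [hf₁']; infer_instance
  have : LocallyOfFiniteType f₁ := by rw [hf₁']; infer_instance
  have : CompactSpace W₁.toScheme := QuasiCompact.compactSpace_of_compactSpace f₁
  -- the lift of `U` to `W₁`
  have hiso₁ := BlowUp.Basic.isIso_restrict hq₁ U₁ hadm₁.2.symm
  let k := j₁.isoOpensRange.hom ≫ inv (q₁ ∣_ U₁)
  let v₁ : U ⟶ W₁.toScheme := k ≫ X₁'.homOfLE hle₁
  have : IsSchemeTheoreticallyDominant v₁ := inferInstance
  have hv₁ : v₁ ≫ W₁.ι ≫ q₁ = j₁ := by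
    simp only [v₁, k, Category.assoc, Scheme.homOfLE_ι_assoc]
    rw [← morphismRestrict_ι, IsIso.inv_hom_id_assoc, Scheme.Hom.isoOpensRange_hom_ι]
  have hv₁' : v₁ ≫ f₁ = j₂ := by
    simp only [v₁, k, Category.assoc, hagree, f, IsIso.inv_hom_id_assoc, Iso.hom_inv_id_assoc]
  have : QuasiSeparatedSpace W₁.toScheme := quasiSeparatedSpace_of_quasiSeparated W₁.ι
  have : QuasiCompact v₁ := QuasiCompact.of_comp _ (terminal.from W₁.toScheme)
  have hv₁U : Set.range v₁ ⊆ Set.range (f₁ ⁻¹ᵁ U₂).ι := by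
    rw [Scheme.Opens.range_ι]
    rintro _ ⟨x, rfl⟩
    exact ⟨x, by rw [← Scheme.Hom.comp_apply, hv₁']⟩
  let v₂ := IsOpenImmersion.lift (f₁ ⁻¹ᵁ U₂).ι v₁ hv₁U
  have hv₂ : v₂ ≫ (f₁ ⁻¹ᵁ U₂).ι = v₁ := IsOpenImmersion.lift_fac _ _ _
  have hv₂dom : IsSchemeTheoreticallyDominant v₂ :=
    (S17890.schDom_lift (f₁ ⁻¹ᵁ U₂) v₁ v₂ hv₂).1
  have hv₂f : v₂ ≫ (f₁ ∣_ U₂) = j₂.isoOpensRange.hom := by
    rw [← cancel_mono U₂.ι, Category.assoc, morphismRestrict_ι, reassoc_of% hv₂, hv₁',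
      Scheme.Hom.isoOpensRange_hom_ι]
  have : IsIso (f₁ ∣_ U₂) := by
    let σ := j₂.isoOpensRange.inv ≫ v₂
    have hσ : σ ≫ (f₁ ∣_ U₂) = 𝟙 _ := by simp [σ, hv₂f]
    have : IsClosedImmersion (σ ≫ (f₁ ∣_ U₂)) := hσ ▸ inferInstance
    have : IsClosedImmersion σ := IsClosedImmersion.of_comp σ (f₁ ∣_ U₂)
    have : IsIso σ := IsClosedImmersion.isIso_iff_ker_eq_bot.mpr
      (IsSchemeTheoreticallyDominant.ker_eq_bot σ)
    exact IsIso.of_isIso_fac_left hσ
  obtain ⟨𝓙₂, X₂', c, W₂, b, hb, hc, hadm₂, hsupp₂, hbl, hle₂, -, -⟩ :=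
    QDom.Birational.exists_blowUp f₁ U₂ hU₂ hd₂
  have : IsProper c := BlowUpProper.Basic.isProper hc hadm₂.1
  have : CompactSpace X₂' := QuasiCompact.compactSpace_of_compactSpace c
  have : QuasiSeparatedSpace X₂' := quasiSeparatedSpace_of_quasiSeparated c
  have : IsProper b :=
    BlowUpProper.Basic.isProper hbl (IdealSh.FinType.comap f₁ hadm₂.1)
  obtain ⟨𝓚, hK, hKc⟩ := IdealSh.Extend.exists_extension (U := q₁ ⁻¹ᵁ U₁) (V := W₁)
    (q₁.isCompact_preimage hU₁) (isCompact_iff_compactSpace.mpr ‹CompactSpace W₁.toScheme›)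
    (IdealSh.FinType.comap f₁ hadm₂.1) (by
      rw [Set.disjoint_left]
      intro w hw hwU
      rw [Scheme.IdealSheafData.support_comap] at hw
      refine hadm₂.2.le_bot ⟨hw, ?_⟩
      obtain ⟨x, hx⟩ : ∃ x, k x = ⟨W₁.ι w, hwU⟩ :=
        (k.homeomorph.surjective _)
      have : v₁ x = w := by
        apply W₁.ι.isOpenEmbedding.injective
        rw [← Scheme.Hom.comp_apply, show v₁ ≫ W₁.ι = k ≫ (q₁ ⁻¹ᵁ U₁).ι by simp [v₁],
          Scheme.Hom.comp_apply, hx]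
        rfl
      rw [← this]
      exact ⟨x, by rw [← Scheme.Hom.comp_apply, hv₁']⟩)
  obtain ⟨X₁'', d, hd⟩ := BlowUp.Glue.exists_isBlowUp X₁' 𝓚
  obtain ⟨e, he⟩ := BlowUp.Basic.exists_iso (hKc ▸ BlowUp.Local.restrict hd W₁) hbl
  obtain ⟨𝓛, h𝓛, h𝓛s, h𝓛b⟩ := BlowComp.Main.exists_comp hq₁ hadm₁.1 hK.1 hd
  have hLs : (𝓛.support : Set X₁) = (U₁ : Set X₁)ᶜ := by
    rw [h𝓛s, hsupp₁]
    refine Set.union_eq_left.mpr ?_
    rintro _ ⟨w, hw, rfl⟩ hwU
    exact hK.2.le_bot ⟨hw, hwU⟩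
  have : IsProper (d ≫ q₁) := BlowUpProper.Basic.isProper h𝓛b h𝓛
  have : CompactSpace X₁'' := QuasiCompact.compactSpace_of_compactSpace (d ≫ q₁)
  have : QuasiSeparatedSpace X₁'' := quasiSeparatedSpace_of_quasiSeparated (d ≫ q₁)
  obtain ⟨u₁, hu₁, _, _, _, -⟩ := exists_lift j₁ h𝓛b hLs
  obtain ⟨u₂, hu₂, _, _, _, hu₂r⟩ := exists_lift j₂ hc hsupp₂
  -- glue along `W₂`
  let h₁ : W₂.toScheme ⟶ X₁'' := e.hom ≫ (d ⁻¹ᵁ W₁).ι
  let h₂ : W₂.toScheme ⟶ X₂' := W₂.ι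
  have hh₁ : h₁ ≫ d = b ≫ W₁.ι := by
    rw [Category.assoc, ← morphismRestrict_ι, ← Category.assoc, he]
  let pa := (d ≫ q₁) ≫ g₁
  let pb := c ≫ g₂
  have w : h₁ ≫ pa = h₂ ≫ pb := by
    simp only [pa, pb, h₂, Category.assoc, reassoc_of% hh₁, hf₁, reassoc_of% hb]
  have hgcl : IsClosed (Set.range (pullback.lift h₁ h₂ w)) := by
    let m : pullback pa pb ⟶ pullback (q₁ ≫ g₁) g₂ :=
      pullback.map pa pb (q₁ ≫ g₁) g₂ d c (𝟙 S) (by simp [pa]) (by simp [pb])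
    have hm : pullback.lift h₁ h₂ w ≫ m = b ≫ Γ₁ := by
      apply pullback.hom_ext <;> simp [m, Γ₁, hh₁, h₂, hb]
    have : IsProper d := BlowUpProper.Basic.isProper hd hK.1
    have : IsSeparated m :=
      MorphismProperty.pullbackMap (P := @IsSeparated) (f := pa) (g := pb) (f' := q₁ ≫ g₁)
        (g' := g₂) (i₁ := d) (i₂ := c) inferInstance inferInstance (by simp [pa]) rfl
    have : IsProper (pullback.lift h₁ h₂ w ≫ m) := by rw [hm]; infer_instance
    have := IsProper.of_comp (pullback.lift h₁ h₂ w) m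
    exact (pullback.lift h₁ h₂ w).isClosedMap.isClosed_range
  have hsep : IsSeparated (pushout.desc pa pb w) := LocHom.isSeparated_glued h₁ h₂ pa pb w hgcl
  let q := pushout.desc pa pb w
  have hql : pushout.inl h₁ h₂ ≫ q = pa := pushout.inl_desc _ _ _
  have hqr : pushout.inr h₁ h₂ ≫ q = pb := pushout.inr_desc _ _ _
  have hlft : LocallyOfFiniteType q := by
    let 𝒰 := (pushout h₁ h₂).openCoverOfIsOpenCover
      (fun i : Bool => if i then (pushout.inl h₁ h₂).opensRange else (pushout.inr h₁ h₂).opensRange)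
      (by
        refine top_le_iff.mp ?_
        rw [← LimLib.pushout_opensRange_sup h₁ h₂]
        exact sup_le (le_iSup_of_le true (by simp)) (le_iSup_of_le false (by simp)))
    rw [IsZariskiLocalAtSource.iff_of_openCover (P := @LocallyOfFiniteType) 𝒰]
    intro i
    cases i
    · show LocallyOfFiniteType ((pushout.inr h₁ h₂).opensRange.ι ≫ q)
      rw [← Scheme.Hom.isoOpensRange_inv_comp, Category.assoc, hqr]
      infer_instance
    · show LocallyOfFiniteType ((pushout.inl h₁ h₂).opensRange.ι ≫ q)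
      rw [← Scheme.Hom.isoOpensRange_inv_comp, Category.assoc, hql]
      infer_instance
  have : CompactSpace (pushout h₁ h₂ : Scheme.{u}) := LimLib.compactSpace_pushout h₁ h₂
  have hqc : QuasiCompact q := QuasiCompact.of_comp _ (terminal.from S)
  let wU : U ⟶ W₂.toScheme := IsOpenImmersion.lift W₂.ι u₂ (by
    rw [Scheme.Opens.range_ι]; exact hu₂r.trans hle₂)
  have hwU : wU ≫ h₂ = u₂ := IsOpenImmersion.lift_fac _ _ _
  have hwb : wU ≫ b = v₁ := by
    have hf' : (wU ≫ b) ≫ f₁ = j₂ := by rw [Category.assoc, ← hb, reassoc_of% hwU, hu₂]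
    let l := IsOpenImmersion.lift (f₁ ⁻¹ᵁ U₂).ι (wU ≫ b) (by
      rw [Scheme.Opens.range_ι]
      rintro _ ⟨x, rfl⟩
      exact ⟨x, by rw [← Scheme.Hom.comp_apply, hf']⟩)
    have hl : l ≫ (f₁ ⁻¹ᵁ U₂).ι = wU ≫ b := IsOpenImmersion.lift_fac _ _ _
    have : l = v₂ := by
      rw [← cancel_mono (f₁ ∣_ U₂), ← cancel_mono U₂.ι, Category.assoc, Category.assoc,
        morphismRestrict_ι, reassoc_of% hl, reassoc_of% hv₂, hv₁', ← hf', Category.assoc]
    rw [← hl, this, hv₂]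
  have hw₁ : wU ≫ h₁ = u₁ := by
    have h3 : (wU ≫ h₁) ≫ d ≫ q₁ = j₁ := by
      rw [Category.assoc, reassoc_of% hh₁, reassoc_of% hwb, hv₁]
    refine BlowUp.Basic.hom_ext_of_disjoint h𝓛b ?_ (by rw [h3, hu₁])
    rw [h3, hLs]
    exact Set.disjoint_compl_right_iff_subset.mpr subset_rfl
  have hj' : u₁ ≫ pushout.inl h₁ h₂ = u₂ ≫ pushout.inr h₁ h₂ := by
    rw [← hw₁, ← hwU, Category.assoc, pushout.condition, Category.assoc]
  have : QuasiSeparatedSpace (pushout h₁ h₂ : Scheme.{u}) :=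
    quasiSeparatedSpace_of_quasiSeparated q
  have : QuasiCompact (u₁ ≫ pushout.inl h₁ h₂) := QuasiCompact.of_comp _ (terminal.from _)
  let jY := u₁ ≫ pushout.inl h₁ h₂
  have hsd : IsSchemeTheoreticallyDominant jY :=
    S17890.schDom_of_two _ _ (LimLib.pushout_opensRange_sup h₁ h₂) u₁ u₂ _ rfl hj'.symm
  let i₁ := pushout.inl h₁ h₂
  let i₂ := pushout.inr h₁ h₂
  have hjq : jY ≫ q = j₁ ≫ g₁ := by
    simp only [jY, Category.assoc, hql, pa]
    simp only [← Category.assoc]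
    rw [Category.assoc u₁ d q₁, hu₁]
  refine ⟨_, q, hsep, hqc, hlft, X₁'', d ≫ q₁, X₂', c, i₁, i₂, u₁, u₂, ⟨𝓛, h𝓛b, h𝓛, hLs⟩,
    ⟨𝓙₂, hc, hadm₂.1, hsupp₂⟩, inferInstance, inferInstance,
    congrArg SetLike.coe (LimLib.pushout_opensRange_sup h₁ h₂), hu₁, hu₂, hj', hql, hqr, inferInstance, hsd, inferInstance⟩

end Groth.Agent.QDom.Pair
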