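import Groth.Agent.BlowUp.Basic
import Groth.Agent.IdealSh.FinType
import Groth.Agent.IdealSh.EffCartier
import Mathlib.AlgebraicGeometry.Morphisms.ClosedImmersion
import Mathlib.AlgebraicGeometry.Morphisms.FiniteType
import Mathlib.AlgebraicGeometry.Morphisms.Immersion

/-!
# Extending a quasi-domination by blowing up, affine case

`X` and `P` are affine, `s : U ⟶ P` is a section over an open `U` whose graph is closed over the
quasi-compact open `V ⊇ U`.  There is a finite type ideal trivial on `V` such that, once it is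
invertible, near every point of the schematic closure of `s` the section extends.
-/

set_option autoImplicit false
set_option maxHeartbeats 1000000
set_option backward.isDefEq.respectTransparency false
set_option backward.defeqAttrib.useBackward true

universe u

open CategoryTheory CategoryTheory.Limits AlgebraicGeometry TopologicalSpace
open Groth.Agent.IdealSh

namespace Groth.Agent.QDom.Local

variable {X P : Scheme.{u}}

lemma exists_pow_mul_res [IsAffine X] (U : X.Opens) (hU : IsCompact (U : Set X)) {j : Γ(X, ⊤)}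
    (hj : X.basicOpen j ≤ U) (g : Γ(U.toScheme, ⊤)) :
    ∃ (N : ℕ) (a : Γ(X, ⊤)), U.ι.appTop.hom a = U.ι.appTop.hom j ^ N * g := by
  set D := X.basicOpen j
  have hiso : IsIso (U.ι.app D) := U.ι.isIso_app D (by rwa [Scheme.Opens.opensRange_ι])
  obtain ⟨y, hy⟩ := (ConcreteCategory.bijective_of_isIso (C := CommRingCat) (U.ι.app D)).2
    (U.toScheme.presheaf.map (homOfLE (le_top : U.ι ⁻¹ᵁ D ≤ ⊤)).op g)
  have := (isAffineOpen_top X).isLocalization_basicOpen j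
  obtain ⟨n, a, ha⟩ := IsLocalization.Away.surj j y
  have hnat : ∀ c : Γ(X, ⊤), (U.ι.app D).hom (algebraMap Γ(X, ⊤) Γ(X, D) c) =
      (U.toScheme.presheaf.map (homOfLE (le_top : U.ι ⁻¹ᵁ D ≤ ⊤)).op).hom (U.ι.appTop.hom c) := by
    intro c
    rw [RingHom.algebraMap_toAlgebra]
    erw [← ConcreteCategory.comp_apply, U.ι.naturality, ConcreteCategory.comp_apply]
  have key := congrArg (U.ι.app D).hom ha
  rw [map_mul, map_pow, hnat, hnat] at key
  erw [hy] at key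
  rw [← map_pow, ← map_mul] at key
  have hcomp : IsCompact ((⊤ : U.toScheme.Opens) : Set U.toScheme) := by
    rw [Opens.coe_top, isCompact_univ_iff]; exact isCompact_iff_compactSpace.mp hU
  have hle : U.toScheme.basicOpen (U.ι.appTop.hom j) ≤ U.ι ⁻¹ᵁ D :=
    (Scheme.preimage_basicOpen_top U.ι j).ge
  have key' := congrArg (U.toScheme.presheaf.map (homOfLE hle).op).hom key
  erw [← ConcreteCategory.comp_apply, ← ConcreteCategory.comp_apply, ← Functor.map_comp] at key'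
  obtain ⟨m, hm⟩ := exists_pow_mul_eq_zero_of_res_basicOpen_eq_zero_of_isCompact U.toScheme
    hcomp (g * U.ι.appTop.hom j ^ n - U.ι.appTop.hom a) (U.ι.appTop.hom j) ((map_sub _ _ _).trans (sub_eq_zero.mpr key'))
  refine ⟨m + n, j ^ m * a, ?_⟩
  rw [map_mul, map_pow]
  linear_combination -hm

lemma exists_graph_eq [IsAffine X] [IsAffine P] (π : P ⟶ X) {U V : X.Opens}
    (hU : IsCompact (U : Set X)) (s : U.toScheme ⟶ P) (hs : s ≫ π = U.ι)
    (hcl : closure (Set.range s) ∩ (π ⁻¹ᵁ V : Set P) ⊆ Set.range s)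
    {κ : Type*} [Fintype κ] (j : κ → Γ(X, ⊤)) (hj : U ≤ ⨆ p, X.basicOpen (j p))
    {h : Γ(X, ⊤)} (hh : X.basicOpen h ≤ V) :
    ∃ (M : ℕ) (Φ : κ → Γ(P, ⊤)),
      U.ι.appTop.hom h ^ M = ∑ p, U.ι.appTop.hom (j p) * s.appTop.hom (Φ p) := by
  classical
  set hP := π.appTop.hom h
  set hU' := U.ι.appTop.hom h with hhU'
  set D := P.basicOpen hP with hD
  have hsh : ∀ c, s.appTop.hom (π.appTop.hom c) = U.ι.appTop.hom c := fun c => by
    rw [← hs, Scheme.Hom.comp_appTop]; rfl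
  have hpre : s ⁻¹ᵁ D = U.toScheme.basicOpen hU' := by
    rw [hD, Scheme.preimage_basicOpen_top, hhU', ← hsh]
  have : IsImmersion (s ≫ π) := hs ▸ inferInstance
  have : IsImmersion s := IsImmersion.of_comp s π
  have : IsImmersion (s ∣_ D) := MorphismProperty.of_isPullback (isPullback_morphismRestrict s D).flip inferInstance
  have hrange : Set.range (s ∣_ D) = D.ι ⁻¹' closure (Set.range s) := by
    refine Set.Subset.antisymm ?_ fun y hy => ?_
    · rintro _ ⟨x, rfl⟩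
      refine subset_closure ⟨(s ⁻¹ᵁ D).ι x, ?_⟩
      rw [← Scheme.Hom.comp_apply, ← morphismRestrict_ι, Scheme.Hom.comp_apply]
    · have hyV : D.ι y ∈ (π ⁻¹ᵁ V : Set P) := by
        refine hh ?_
        exact (Scheme.preimage_basicOpen_top π h).ge y.2
      obtain ⟨x, hx⟩ := hcl ⟨hy, hyV⟩
      refine ⟨⟨x, show s x ∈ D from hx ▸ y.2⟩, D.ι.isOpenEmbedding.injective ?_⟩
      rw [← Scheme.Hom.comp_apply, morphismRestrict_ι, Scheme.Hom.comp_apply]
      exact hx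
  have : IsClosedImmersion (s ∣_ D) := IsClosedImmersion.of_isPreimmersion _
    (hrange ▸ isClosed_closure.preimage D.ι.continuous)
  have : IsAffine D.toScheme := (isAffineOpen_top P).basicOpen hP
  have hO : IsAffineOpen (s ⁻¹ᵁ D) :=
    isAffine_of_isAffineHom (s ∣_ D)
  have hsurj : Function.Surjective (s.app D).hom := by
    have h1 := (IsClosedImmersion.isAffine_surjective_of_isAffine (s ∣_ D)).2
    rw [morphismRestrict_appTop] at h1
    have h2 : Function.Surjective (s.app (D.ι ''ᵁ ⊤)).hom := fun z => by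
      obtain ⟨w, hw⟩ := h1 ((U.toScheme.presheaf.map (eqToHom (image_morphismRestrict_preimage s D ⊤)).op).hom z)
      exact ⟨w, (ConcreteCategory.bijective_of_isIso (C := CommRingCat) _).1 hw⟩
    exact (show ∀ W, W = D → Function.Surjective (s.app W).hom → Function.Surjective (s.app D).hom
      from fun W e h => by subst e; exact h) _ D.ι_image_top h2
  let O := s ⁻¹ᵁ D
  let res := (U.toScheme.presheaf.map (homOfLE (le_top : O ≤ ⊤)).op).hom
  have hspan : Ideal.span (Set.range fun p => res (U.ι.appTop.hom (j p))) = ⊤ := by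
    rw [← hO.self_le_iSup_basicOpen_iff, iSup_range']
    intro x hx
    obtain ⟨p, hp⟩ := Opens.mem_iSup.mp (hj x.2)
    refine Opens.mem_iSup.mpr ⟨p, ?_⟩
    erw [Scheme.basicOpen_res]
    refine ⟨hx, ?_⟩
    rw [← Scheme.preimage_basicOpen_top]
    exact hp
  obtain ⟨r, hr⟩ := Ideal.mem_span_range_iff_exists_fun.mp
    (show (1 : Γ(U.toScheme, O)) ∈ _ from hspan ▸ Submodule.mem_top)
  choose y hy using fun p => hsurj (r p)
  have := (isAffineOpen_top P).isLocalization_basicOpen hP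
  choose n Φ hΦ using fun p => IsLocalization.Away.surj (S := Γ(P, D)) hP (y p)
  set N := Finset.univ.sup n
  have hsres : ∀ c : Γ(P, ⊤), (s.app D).hom (algebraMap Γ(P, ⊤) Γ(P, D) c) =
      res (s.appTop.hom c) := by
    intro c
    rw [RingHom.algebraMap_toAlgebra]
    erw [← ConcreteCategory.comp_apply, s.naturality, ConcreteCategory.comp_apply]
  have h1 : res hU' ^ N = res (∑ p, U.ι.appTop.hom (j p) * s.appTop.hom (hP ^ (N - n p) * Φ p)) := by
    rw [map_sum]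
    have h2 : ∀ p, r p * res hU' ^ N = res (s.appTop.hom (hP ^ (N - n p) * Φ p)) := by
      intro p
      have hn : n p + (N - n p) = N :=
        Nat.add_sub_cancel' (Finset.le_sup (Finset.mem_univ p))
      have := congrArg (s.app D).hom (hΦ p)
      rw [map_mul, map_pow, hsres, hsres, hsh, hy] at this
      rw [map_mul, map_pow, hsh, map_mul, map_pow, ← hhU', ← this]
      conv_lhs => rw [← hn, pow_add]
      ring
    calc res hU' ^ N = (∑ p, r p * res (U.ι.appTop.hom (j p))) * res hU' ^ N := by rw [hr, one_mul]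
      _ = _ := by
        rw [Finset.sum_mul]
        refine Finset.sum_congr rfl fun p _ => ?_
        rw [map_mul, ← h2]
        ring
  have hcomp : IsCompact ((⊤ : U.toScheme.Opens) : Set U.toScheme) := by
    rw [Opens.coe_top, isCompact_univ_iff]; exact isCompact_iff_compactSpace.mp hU
  have h3 := congrArg (U.toScheme.presheaf.map (homOfLE hpre.ge).op).hom (h1)
  rw [← map_pow] at h3
  simp only [res] at h3
  erw [← ConcreteCategory.comp_apply, ← ConcreteCategory.comp_apply, ← Functor.map_comp] at h3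
  obtain ⟨e, he⟩ := exists_pow_mul_eq_zero_of_res_basicOpen_eq_zero_of_isCompact U.toScheme hcomp
    (hU' ^ N - ∑ p, U.ι.appTop.hom (j p) * s.appTop.hom (hP ^ (N - n p) * Φ p)) hU' ((map_sub _ _ _).trans (sub_eq_zero.mpr h3))
  refine ⟨e + N, fun p => hP ^ e * (hP ^ (N - n p) * Φ p), ?_⟩
  rw [mul_sub, sub_eq_zero, Finset.mul_sum, ← pow_add] at he
  rw [he]
  refine Finset.sum_congr rfl fun p _ => ?_
  simp only [map_mul, map_pow, hP, hsh, hU']
  ring

lemma app_mem_nonZeroDivisors {Y : Scheme.{u}} (i : Y ⟶ X) [IsOpenImmersion i] {T : X.Opens}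
    (hT : IsAffineOpen T) {e : Γ(X, T)} (he : e ∈ nonZeroDivisors Γ(X, T)) :
    (i.app T).hom e ∈ nonZeroDivisors Γ(Y, i ⁻¹ᵁ T) := by
  refine Regular.mem_nonZeroDivisors_of_germ fun y hy => ?_
  have h1 := Regular.germ_mem_nonZeroDivisors hT (i y) hy he
  have h2 : i.stalkMap y (X.presheaf.germ T (i y) hy e) =
      Y.presheaf.germ (i ⁻¹ᵁ T) y hy ((i.app T).hom e) := Scheme.Hom.germ_stalkMap_apply i T y hy e
  rw [← h2]
  have hbij := ConcreteCategory.bijective_of_isIso (C := CommRingCat) (i.stalkMap y)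
  rw [mem_nonZeroDivisors_iff_right]
  intro z hz
  obtain ⟨w, rfl⟩ := hbij.2 z
  rw [← map_mul] at hz
  rw [mem_nonZeroDivisors_iff_right.mp h1 w (hbij.1 (hz.trans (map_zero _).symm)), map_zero]

/-- If an equation `e` of an ideal lies in the span of some `v p = e * u p` on a schematically dense
part, one of the `v p` is an equation near a given point there. -/
lemma exists_unit_chart {Xt G Z : Scheme.{u}} (ρ : G ⟶ Xt) (v : Z ⟶ G)
    [IsSchemeTheoreticallyDominant v] [QuasiCompact v] [IsOpenImmersion (v ≫ ρ)]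
    (J : Xt.IdealSheafData) (T : Xt.affineOpens) (γ : G) (hγ : ρ γ ∈ T.1) {e : Γ(Xt, T.1)}
    (he : e ∈ nonZeroDivisors Γ(Xt, T.1)) (hJ : J.ideal T = Ideal.span {e})
    {κ : Type*} [Fintype κ] (w : κ → Γ(Xt, T.1)) (hw : ∀ p, w p ∈ J.ideal T)
    (hmem : (J.ideal T).map (ρ.app T.1).hom ≤ Ideal.span (Set.range fun p => (ρ.app T.1).hom (w p))) :
    ∃ (p : κ) (T' : Xt.affineOpens) (hle : T'.1 ≤ T.1), ρ γ ∈ T'.1 ∧
      (Xt.presheaf.map (homOfLE hle).op).hom (w p) ∈ nonZeroDivisors Γ(Xt, T'.1) ∧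
      J.ideal T' = Ideal.span {(Xt.presheaf.map (homOfLE hle).op).hom (w p)} := by
  classical
  set φ := (ρ.app T.1).hom
  have hnzd : φ e ∈ nonZeroDivisors Γ(G, ρ ⁻¹ᵁ T.1) := by
    rw [mem_nonZeroDivisors_iff_right]
    intro x hx
    apply v.app_injective (ρ ⁻¹ᵁ T.1)
    rw [map_zero]
    have h1 := app_mem_nonZeroDivisors (v ≫ ρ) T.2 he
    rw [Scheme.Hom.comp_app] at h1
    refine mem_nonZeroDivisors_iff_right.mp h1 _ ?_
    have := congrArg (v.app (ρ ⁻¹ᵁ T.1)).hom hx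
    rw [map_mul, map_zero] at this
    exact this
  have hwe : ∀ p, ∃ u, u * e = w p := fun p => Ideal.mem_span_singleton'.mp (hJ ▸ hw p)
  choose u hu using hwe
  obtain ⟨r, hr⟩ := Ideal.mem_span_range_iff_exists_fun.mp
    (hmem (Ideal.mem_map_of_mem φ (hJ ▸ Ideal.mem_span_singleton_self e)))
  have h1 : ∑ p, r p * φ (u p) = 1 := by
    refine (sub_eq_zero.mp (mem_nonZeroDivisors_iff_right.mp hnzd _ ?_))
    rw [sub_mul, one_mul, Finset.sum_mul, sub_eq_zero]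
    refine Eq.trans (Finset.sum_congr rfl fun p _ => ?_) hr
    rw [mul_assoc, ← map_mul, hu]
  obtain ⟨p, hp⟩ : ∃ p, γ ∈ G.basicOpen (φ (u p)) := by
    by_contra! hcon
    have hcon' : ∀ p, G.presheaf.germ (ρ ⁻¹ᵁ T.1) γ hγ (φ (u p)) ∈
        IsLocalRing.maximalIdeal (G.presheaf.stalk γ) := fun p => by
      rw [IsLocalRing.mem_maximalIdeal, mem_nonunits_iff]
      exact fun hun => hcon p ((Scheme.mem_basicOpen _ _ γ hγ).mpr hun)
    have : (1 : G.presheaf.stalk γ) ∈ IsLocalRing.maximalIdeal (G.presheaf.stalk γ) := by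
      rw [← map_one (G.presheaf.germ (ρ ⁻¹ᵁ T.1) γ hγ).hom, ← h1, map_sum]
      refine Ideal.sum_mem _ fun p _ => ?_
      rw [map_mul]
      exact Ideal.mul_mem_left _ _ (hcon' p)
    exact (IsLocalRing.maximalIdeal.isMaximal _).ne_top ((Ideal.eq_top_iff_one _).mpr this)
  rw [← Scheme.preimage_basicOpen] at hp
  refine ⟨p, Xt.affineBasicOpen (u p), Xt.basicOpen_le _, hp, ?_⟩
  set res := (Xt.presheaf.map (homOfLE (Xt.basicOpen_le (u p))).op).hom
  have hun : IsUnit (res (u p)) := RingedSpace.isUnit_res_basicOpen _ _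
  have hres : res (w p) = res (u p) * res e := by rw [← map_mul, hu]
  constructor
  · show res (w p) ∈ _
    rw [hres]
    exact mul_mem hun.mem_nonZeroDivisors (EffCartier.map_res_mem_nonZeroDivisors (Xt.basicOpen_le _) he)
  · show _ = Ideal.span {res (w p)}
    rw [hres, Ideal.span_singleton_mul_left_unit hun]
    exact EffCartier.restrict_eq (Xt.basicOpen_le (u p)) hJ


lemma fg_ofIdealTop [IsAffine X] {I : Ideal Γ(X, ⊤)} (hI : I.FG) :
    BlowUp.IsFiniteTypeIdeal (Scheme.IdealSheafData.ofIdealTop I) := fun T => by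
  rw [Scheme.IdealSheafData.ofIdealTop_ideal]
  exact hI.map _

lemma disjoint_ofIdealTop [IsAffine X] {I : Ideal Γ(X, ⊤)} {V : X.Opens}
    (h : ∀ x ∈ V, ∃ f ∈ I, x ∈ X.basicOpen f) :
    Disjoint ((Scheme.IdealSheafData.ofIdealTop I).support : Set X) (V : Set X) := by
  rw [Set.disjoint_left]
  intro x hx hxV
  obtain ⟨f, hf, hxf⟩ := h x hxV
  rw [SetLike.mem_coe, Scheme.IdealSheafData.mem_support_iff_of_mem
    (U := ⟨⊤, isAffineOpen_top X⟩) (Set.mem_univ x), Scheme.mem_zeroLocus_iff] at hx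
  exact hx f (by simpa using hf) hxf

lemma exists_basicOpen_family [IsAffine X] {W : X.Opens} (hW : IsCompact (W : Set X)) :
    ∃ S : Set Γ(X, ⊤), S.Finite ∧ (∀ f ∈ S, X.basicOpen f ≤ W) ∧
      ∀ x ∈ W, ∃ f ∈ S, x ∈ X.basicOpen f := by
  obtain ⟨S, hS, heq⟩ := isCompact_and_isOpen_iff_finite_and_eq_biUnion_basicOpen.mp ⟨hW, W.2⟩
  refine ⟨S, hS, fun f hf x hx => ?_, fun x hx => ?_⟩
  · exact heq.ge (Set.mem_biUnion hf hx)
  · simpa using heq.le hx

lemma appLE_comm {A B B' C : Scheme.{u}} {f : A ⟶ B} {g : B ⟶ C} {f' : A ⟶ B'} {g' : B' ⟶ C}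
    (h : f ≫ g = f' ≫ g') (U₀ : C.Opens) (V₁ : B.Opens) (V₂ : B'.Opens) (W : A.Opens)
    (e₁ : V₁ ≤ g ⁻¹ᵁ U₀) (e₂ : W ≤ f ⁻¹ᵁ V₁) {e₃ : V₂ ≤ g' ⁻¹ᵁ U₀} {e₄ : W ≤ f' ⁻¹ᵁ V₂} :
    g.appLE U₀ V₁ e₁ ≫ f.appLE V₁ W e₂ = g'.appLE U₀ V₂ e₃ ≫ f'.appLE V₂ W e₄ := by
  rw [Scheme.Hom.appLE_comp_appLE, Scheme.Hom.appLE_comp_appLE]
  simp only [h]

/-- The affine extension statement. -/
theorem exists_ideal [IsAffine X] [IsAffine P] (π : P ⟶ X) [LocallyOfFiniteType π] {U V : X.Opens}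
    (hU : IsCompact (U : Set X)) (hV : IsCompact (V : Set X)) (hUV : U ≤ V) (s : U.toScheme ⟶ P)
    (hs : s ≫ π = U.ι) (hcl : closure (Set.range s) ∩ (π ⁻¹ᵁ V : Set P) ⊆ Set.range s) :
    ∃ K : X.IdealSheafData, BlowUp.IsAdmissibleFor V K ∧
      ∀ {Xt G Z : Scheme.{u}} (q : Xt ⟶ X) [IsSchemeTheoreticallyDominant (q ⁻¹ᵁ V).ι]
        [QuasiCompact (q ⁻¹ᵁ V).ι], BlowUp.IsEffCartierIdeal (K.comap q) →
      ∀ (ρ : G ⟶ Xt) (κ : G ⟶ P) (v : Z ⟶ G) (z : Z ⟶ U.toScheme)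
        [IsSchemeTheoreticallyDominant v] [QuasiCompact v] [IsOpenImmersion (v ≫ ρ)],
        ρ ≫ q = κ ≫ π → (v ≫ ρ) ≫ q = z ≫ U.ι → v ≫ κ = z ≫ s →
      ∀ γ : G, ∃ T : Xt.Opens, IsAffineOpen T ∧ ρ γ ∈ T ∧ (T.ι ≫ q) ⁻¹ᵁ U = (T.ι ≫ q) ⁻¹ᵁ V ∧
        IsSchemeTheoreticallyDominant ((T.ι ≫ q) ⁻¹ᵁ U).ι ∧ QuasiCompact ((T.ι ≫ q) ⁻¹ᵁ U).ι ∧
        ∃ τ : T.toScheme ⟶ P, τ ≫ π = T.ι ≫ q ∧
          ∀ {W : Scheme.{u}} (m : W ⟶ T.toScheme) (c : W ⟶ U.toScheme),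
            m ≫ T.ι ≫ q = c ≫ U.ι → m ≫ τ = c ≫ s := by
  classical
  obtain ⟨Hs, hHfin, hHV, hVH⟩ := exists_basicOpen_family hV
  obtain ⟨Js, hJfin, hJU, hUJ⟩ := exists_basicOpen_family hU
  have := hHfin.fintype
  have := hJfin.fintype
  have hcover : U ≤ ⨆ p : Js, X.basicOpen (p : Γ(X, ⊤)) := fun x hx => by
    obtain ⟨f, hf, hxf⟩ := hUJ x hx
    exact Opens.mem_iSup.mpr ⟨⟨f, hf⟩, hxf⟩
  have hft : π.appTop.hom.FiniteType :=
    HasRingHomProperty.appTop (P := @LocallyOfFiniteType) π inferInstance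
  algebraize [π.appTop.hom]
  obtain ⟨Gs, hGs⟩ := Algebra.FiniteType.out (R := Γ(X, ⊤)) (A := Γ(P, ⊤))
  have hsπ : ∀ c, s.appTop.hom (π.appTop.hom c) = U.ι.appTop.hom c := fun c => by
    rw [← hs, Scheme.Hom.comp_appTop]; rfl
  -- numerators
  choose n a₀ ha₀ using fun pk : Js × Gs =>
    exists_pow_mul_res U hU (hJU _ pk.1.2) (s.appTop.hom (pk.2 : Γ(P, ⊤)))
  let N := Finset.univ.sup n
  let a : Js × Gs → Γ(X, ⊤) := fun pk => (pk.1 : Γ(X, ⊤)) ^ (N - n pk) * a₀ pk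
  have ha : ∀ pk : Js × Gs, U.ι.appTop.hom (a pk) =
      U.ι.appTop.hom (pk.1 : Γ(X, ⊤)) ^ N * s.appTop.hom (pk.2 : Γ(P, ⊤)) := fun pk => by
    simp only [a, map_mul, map_pow, ha₀]
    rw [← mul_assoc, ← pow_add, Nat.sub_add_cancel (Finset.le_sup (Finset.mem_univ pk))]
  -- the closed graph equations
  choose M₀ Φ₀ hΦ₀ using fun i : Hs =>
    exists_graph_eq π hU s hs hcl (fun p : Js => (p : Γ(X, ⊤))) hcover (hHV _ i.2)
  let M := Finset.univ.sup M₀
  let Φ : Hs → Js → Γ(P, ⊤) := fun i p => π.appTop.hom (i : Γ(X, ⊤)) ^ (M - M₀ i) * Φ₀ i p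
  have hΦ : ∀ i : Hs, U.ι.appTop.hom (i : Γ(X, ⊤)) ^ M =
      ∑ p : Js, U.ι.appTop.hom (p : Γ(X, ⊤)) * s.appTop.hom (Φ i p) := fun i => by
    conv_lhs => rw [← Nat.sub_add_cancel (show M₀ i ≤ M from Finset.le_sup (Finset.mem_univ i)), pow_add,
      hΦ₀, Finset.mul_sum]
    refine Finset.sum_congr rfl fun p _ => ?_
    simp only [Φ, map_mul, map_pow, hsπ]
    ring
  let L : Ideal Γ(X, ⊤) := Ideal.span (Set.range fun i : Hs => (i : Γ(X, ⊤)) ^ M) ⊔
    Ideal.span (Set.range fun p : Js => (p : Γ(X, ⊤)))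
  let E : Ideal Γ(X, ⊤) := Ideal.span (Set.range fun i : Hs => ((i : Γ(X, ⊤)) ^ M) ^ N) ⊔
    (Ideal.span (Set.range fun p : Js => (p : Γ(X, ⊤)) ^ N) ⊔ Ideal.span (Set.range a))
  let IL := Scheme.IdealSheafData.ofIdealTop L
  let IE := Scheme.IdealSheafData.ofIdealTop E
  have hpow : ∀ x ∈ V, ∀ k : ℕ, ∃ i : Hs, x ∈ X.basicOpen ((i : Γ(X, ⊤)) ^ k) := by
    intro x hx k
    obtain ⟨f, hf, hxf⟩ := hVH x hx
    refine ⟨⟨f, hf⟩, ?_⟩
    rw [Scheme.mem_basicOpen _ _ x (Set.mem_univ x)] at hxf ⊢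
    rw [map_pow]
    exact hxf.pow k
  have hdL : Disjoint (IL.support : Set X) (V : Set X) := disjoint_ofIdealTop fun x hx => by
    obtain ⟨i, hi⟩ := hpow x hx M
    exact ⟨_, Ideal.mem_sup_left (Ideal.subset_span ⟨i, rfl⟩), hi⟩
  have hdE : Disjoint (IE.support : Set X) (V : Set X) := disjoint_ofIdealTop fun x hx => by
    obtain ⟨i, hi⟩ := hpow x hx (M * N)
    exact ⟨_, Ideal.mem_sup_left (Ideal.subset_span ⟨i, (pow_mul _ _ _).symm⟩), hi⟩
  have hfgL : L.FG := (Submodule.fg_span (Set.finite_range _)).sup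
    (Submodule.fg_span (Set.finite_range _))
  have hfgE : E.FG := (Submodule.fg_span (Set.finite_range _)).sup
    ((Submodule.fg_span (Set.finite_range _)).sup (Submodule.fg_span (Set.finite_range _)))
  refine ⟨IL * IE, FinType.admissible_mul ⟨fg_ofIdealTop hfgL, hdL⟩ ⟨fg_ofIdealTop hfgE, hdE⟩, ?_⟩
  intro Xt G Z q _ _ hK ρ κ v z _ _ _ hρκ hvρ hvκ γ
  rw [Comap.comap_mul] at hK
  have hcL := EffCartier.factor_left hK
  have hcE := EffCartier.factor_right hK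
  let α : ∀ T : Xt.affineOpens, Γ(X, ⊤) →+* Γ(Xt, T.1) := fun T => (q.appLE ⊤ T.1 le_top).hom
  have hαres : ∀ (T T' : Xt.affineOpens) (hle : T'.1 ≤ T.1) (c : Γ(X, ⊤)),
      (Xt.presheaf.map (homOfLE hle).op).hom (α T c) = α T' c := fun T T' hle c => by
    simp only [α]
    erw [← ConcreteCategory.comp_apply, Scheme.Hom.appLE_map]
  have hIL : ∀ T : Xt.affineOpens, (IL.comap q).ideal T = L.map (α T) := fun T =>
    Comap.ofIdealTop_comap L q T
  have hIE : ∀ T : Xt.affineOpens, (IE.comap q).ideal T = E.map (α T) := fun T =>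
    Comap.ofIdealTop_comap E q T
  let ψA : ∀ T : Xt.affineOpens, Γ(X, ⊤) →+* Γ(G, ρ ⁻¹ᵁ T.1) := fun T =>
    (ρ.app T.1).hom.comp (α T)
  let ψP : ∀ T : Xt.affineOpens, Γ(P, ⊤) →+* Γ(G, ρ ⁻¹ᵁ T.1) := fun T =>
    (κ.appLE ⊤ (ρ ⁻¹ᵁ T.1) le_top).hom
  let β : ∀ T : Xt.affineOpens, Γ(U.toScheme, ⊤) →+* Γ(Z, v ⁻¹ᵁ ρ ⁻¹ᵁ T.1) := fun T =>
    (z.appLE ⊤ (v ⁻¹ᵁ ρ ⁻¹ᵁ T.1) le_top).hom
  have hβA : ∀ (T : Xt.affineOpens) (c : Γ(X, ⊤)),
      (v.app (ρ ⁻¹ᵁ T.1)).hom (ψA T c) = β T (U.ι.appTop.hom c) := by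
    intro T c
    have e : q.appLE ⊤ T.1 le_top ≫ ρ.app T.1 ≫ v.app (ρ ⁻¹ᵁ T.1) =
        U.ι.appTop ≫ z.appLE ⊤ (v ⁻¹ᵁ ρ ⁻¹ᵁ T.1) le_top := by
      rw [← Scheme.Hom.comp_app, Scheme.Hom.app_eq_appLE]
      exact (appLE_comm hvρ _ _ _ _ _ _).trans (by rw [Scheme.Hom.appTop, Scheme.Hom.app_eq_appLE]; rfl)
    exact congr($(e).hom c)
  have hβP : ∀ (T : Xt.affineOpens) (c : Γ(P, ⊤)),
      (v.app (ρ ⁻¹ᵁ T.1)).hom (ψP T c) = β T (s.appTop.hom c) := by
    intro T c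
    have e : κ.appLE ⊤ (ρ ⁻¹ᵁ T.1) le_top ≫ v.app (ρ ⁻¹ᵁ T.1) =
        s.appTop ≫ z.appLE ⊤ (v ⁻¹ᵁ ρ ⁻¹ᵁ T.1) le_top := by
      rw [Scheme.Hom.app_eq_appLE]
      exact (appLE_comm hvκ _ _ _ _ _ _).trans (by rw [Scheme.Hom.appTop, Scheme.Hom.app_eq_appLE]; rfl)
    exact congr($(e).hom c)
  have hGh : ∀ (T : Xt.affineOpens) (i : Hs), ψA T ((i : Γ(X, ⊤)) ^ M) ∈
      Ideal.span (Set.range fun p : Js => ψA T (p : Γ(X, ⊤))) := by
    intro T i
    have : ψA T ((i : Γ(X, ⊤)) ^ M) = ∑ p : Js, ψP T (Φ i p) * ψA T (p : Γ(X, ⊤)) := by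
      apply v.app_injective (ρ ⁻¹ᵁ T.1)
      simp only [hβA, hβP, map_sum, map_mul, map_pow, ← map_pow (β T), hΦ]
      exact Finset.sum_congr rfl fun p _ => mul_comm _ _
    rw [this]
    exact Ideal.sum_mem _ fun p _ => Ideal.mul_mem_left _ _ (Ideal.subset_span ⟨p, rfl⟩)
  have hGa : ∀ (T : Xt.affineOpens) (pk : Js × Gs), ψA T (a pk) ∈
      Ideal.span (Set.range fun p : Js => ψA T ((p : Γ(X, ⊤)) ^ N)) := by
    intro T pk
    have : ψA T (a pk) = ψP T (pk.2 : Γ(P, ⊤)) * ψA T ((pk.1 : Γ(X, ⊤)) ^ N) := by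
      apply v.app_injective (ρ ⁻¹ᵁ T.1)
      simp only [map_mul, hβA, hβP, ha, map_pow]
      ring
    rw [this]
    exact Ideal.mul_mem_left _ _ (Ideal.subset_span ⟨pk.1, rfl⟩)
  -- first chart: an equation `j p₁` of the first ideal
  obtain ⟨T₁, hγ₁, -, e₁, he₁, hI₁⟩ := EffCartier.exists_equation hcL (ρ γ) ⊤ trivial
  obtain ⟨p₁, T₂, hle₂, hγ₂, -, hI₂⟩ := exists_unit_chart ρ v (IL.comap q) T₁ γ hγ₁ he₁ hI₁
    (fun p : Js => α T₁ (p : Γ(X, ⊤)))
    (fun p => by rw [hIL]; exact Ideal.mem_map_of_mem _ (Ideal.mem_sup_right (Ideal.subset_span ⟨p, rfl⟩)))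
    (by
      rw [hIL, Ideal.map_map, Ideal.map_le_iff_le_comap]
      refine sup_le ?_ ?_ <;> rw [Ideal.span_le] <;> rintro _ ⟨i, rfl⟩
      · exact hGh T₁ i
      · exact Ideal.subset_span ⟨i, rfl⟩)
  rw [hαres] at hI₂
  -- second chart: an equation `(j p₂) ^ N` of the second ideal
  obtain ⟨T₃, hγ₃, hle₃, e₃, he₃, hI₃⟩ := EffCartier.exists_equation hcE (ρ γ) T₂.1 hγ₂
  have hI₃' : (IL.comap q).ideal T₃ = Ideal.span {α T₃ (p₁ : Γ(X, ⊤))} := by
    rw [EffCartier.restrict_eq hle₃ hI₂]; erw [hαres]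
  obtain ⟨p₂, T, hle, hγT, hd, hI⟩ := exists_unit_chart ρ v (IE.comap q) T₃ γ hγ₃ he₃ hI₃
    (fun p : Js => α T₃ ((p : Γ(X, ⊤)) ^ N))
    (fun p => by
      rw [hIE]
      exact Ideal.mem_map_of_mem _
        (Ideal.mem_sup_right (Ideal.mem_sup_left (Ideal.subset_span ⟨p, rfl⟩))))
    (by
      rw [hIE, Ideal.map_map, Ideal.map_le_iff_le_comap]
      refine sup_le ?_ (sup_le ?_ ?_) <;> rw [Ideal.span_le] <;> rintro _ ⟨i, rfl⟩
      · have h1 : α T₃ ((i : Γ(X, ⊤)) ^ M) ∈ Ideal.span {α T₃ (p₁ : Γ(X, ⊤))} := by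
          rw [← hI₃', hIL]
          exact Ideal.mem_map_of_mem _ (Ideal.mem_sup_left (Ideal.subset_span ⟨i, rfl⟩))
        obtain ⟨w, hw⟩ := Ideal.mem_span_singleton'.mp h1
        rw [SetLike.mem_coe, Ideal.mem_comap]
        show ψA T₃ (((i : Γ(X, ⊤)) ^ M) ^ N) ∈ _
        rw [map_pow]
        have : ψA T₃ ((i : Γ(X, ⊤)) ^ M) = (ρ.app T₃.1).hom w * ψA T₃ (p₁ : Γ(X, ⊤)) := by
          simp only [ψA, RingHom.comp_apply, ← hw, map_mul]
        rw [this, mul_pow, ← map_pow]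
        exact Ideal.mul_mem_left _ _ (Ideal.subset_span ⟨p₁, map_pow (ψA T₃) _ _⟩)
      · exact Ideal.subset_span ⟨i, rfl⟩
      · exact hGa T₃ i)
  rw [hαres] at hd hI
  have hIL' : (IL.comap q).ideal T = Ideal.span {α T (p₁ : Γ(X, ⊤))} := by
    rw [EffCartier.restrict_eq hle hI₃']; erw [hαres]
  -- on the chart the preimages of `U` and `V` agree
  let qT := T.1.ι ≫ q
  have hUVT : qT ⁻¹ᵁ U = qT ⁻¹ᵁ V := by
    refine le_antisymm (fun y hy => hUV hy) fun y hy => hJU _ p₁.2 ?_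
    have hy' : T.1.ι y ∈ Xt.basicOpen (α T (p₁ : Γ(X, ⊤))) := by
      rw [← SetLike.mem_coe, Regular.basicOpen_eq_compl_support hIL']
      refine ⟨y.2, fun hmem => hdL.le_bot ⟨?_, (hy : q (T.1.ι y) ∈ V)⟩⟩
      rw [Scheme.IdealSheafData.support_comap] at hmem
      exact hmem
    simp only [α, Scheme.basicOpen_appLE] at hy'
    exact hy'.2
  have hpb := isPullback_morphismRestrict T.1.ι (q ⁻¹ᵁ V)
  have hdom : IsSchemeTheoreticallyDominant (qT ⁻¹ᵁ U).ι := by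
    rw [hUVT]; show IsSchemeTheoreticallyDominant (T.1.ι ⁻¹ᵁ q ⁻¹ᵁ V).ι
    exact IsSchemeTheoreticallyDominant.of_isPullback hpb
  have hqc : QuasiCompact (qT ⁻¹ᵁ U).ι := by
    rw [hUVT]; show QuasiCompact (T.1.ι ⁻¹ᵁ q ⁻¹ᵁ V).ι
    exact MorphismProperty.of_isPullback hpb inferInstance
  refine ⟨T.1, T.2, hγT, hUVT, hdom, hqc, ?_⟩
  have : IsAffine T.1.toScheme := T.2
  let m₀ := (qT ⁻¹ᵁ U).ι
  let c₀ := qT ∣_ U
  have hmc : m₀ ≫ qT = c₀ ≫ U.ι := (morphismRestrict_ι _ _).symm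
  let Δ := qT.appTop.hom
  let μ := m₀.appTop.hom
  let θ : Γ(P, ⊤) →+* Γ((qT ⁻¹ᵁ U).toScheme, ⊤) := c₀.appTop.hom.comp s.appTop.hom
  have hμ : Function.Injective μ := m₀.app_injective ⊤
  have hθπ : ∀ c, θ (π.appTop.hom c) = μ (Δ c) := fun c => by
    simp only [θ, RingHom.comp_apply, hsπ]
    have := congr(($hmc).appTop.hom c)
    simp only [Scheme.Hom.comp_appTop] at this
    exact this.symm
  have hΔ : ∀ c, Δ c = T.1.topIso.inv.hom (α T c) := fun c => by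
    have e : qT.appTop = q.appLE ⊤ T.1 le_top ≫ T.1.topIso.inv := by
      simp [qT, Scheme.Hom.appLE, Scheme.Opens.topIso_inv, ← Functor.map_comp]
    exact congr($(e).hom c)
  set d := Δ ((p₂ : Γ(X, ⊤)) ^ N) with hd'
  have hdnz : d ∈ nonZeroDivisors Γ(T.1.toScheme, ⊤) := by
    rw [hd', hΔ, mem_nonZeroDivisors_iff_right]
    intro x hx
    apply (ConcreteCategory.bijective_of_isIso (C := CommRingCat) T.1.topIso.hom).1
    rw [map_zero]
    refine mem_nonZeroDivisors_iff_right.mp hd _ ?_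
    have := congrArg T.1.topIso.hom.hom hx
    rw [map_mul, map_zero] at this
    rwa [show T.1.topIso.hom.hom (T.1.topIso.inv.hom (α T ((p₂ : Γ(X, ⊤)) ^ N))) =
      α T ((p₂ : Γ(X, ⊤)) ^ N) from T.1.topIso.inv_hom_id_apply _] at this
  have hb : ∀ k : Gs, θ (k : Γ(P, ⊤)) ∈ μ.range := by
    intro k
    have h1 : α T (a (p₂, k)) ∈ Ideal.span {α T ((p₂ : Γ(X, ⊤)) ^ N)} := by
      rw [← hI, hIE]
      exact Ideal.mem_map_of_mem _
        (Ideal.mem_sup_right (Ideal.mem_sup_right (Ideal.subset_span ⟨(p₂, k), rfl⟩)))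
    obtain ⟨b, hb⟩ := Ideal.mem_span_singleton'.mp h1
    refine ⟨T.1.topIso.inv.hom b, ?_⟩
    have hμd : μ d ∈ nonZeroDivisors _ := app_mem_nonZeroDivisors m₀ (isAffineOpen_top _) hdnz
    refine (mul_cancel_right_mem_nonZeroDivisors hμd).mp ?_
    rw [← map_mul, hd', hΔ, ← map_mul, hb, ← hΔ, ← hΔ, ← hθπ, ← hθπ]
    simp only [θ, RingHom.comp_apply, hsπ, map_pow]
    rw [ha (p₂, k), map_mul, map_pow]
    ring
  have hrange : ∀ y, θ y ∈ μ.range := by
    intro y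
    have hy : y ∈ Algebra.adjoin Γ(X, ⊤) (Gs : Set Γ(P, ⊤)) := hGs ▸ Algebra.mem_top
    induction hy using Algebra.adjoin_induction with
    | mem x hx => exact hb ⟨x, hx⟩
    | algebraMap r => exact ⟨Δ r, (hθπ r).symm⟩
    | add x y _ _ hx hy => rw [map_add]; exact add_mem hx hy
    | mul x y _ _ hx hy => rw [map_mul]; exact mul_mem hx hy
  choose f hf using hrange
  let f' : Γ(P, ⊤) →+* Γ(T.1.toScheme, ⊤) :=
    { toFun := f
      map_one' := hμ (by rw [hf, map_one, map_one])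
      map_mul' := fun x y => hμ (by rw [hf, map_mul, map_mul, hf, hf])
      map_zero' := hμ (by rw [hf, map_zero, map_zero])
      map_add' := fun x y => hμ (by rw [hf, map_add, map_add, hf, hf]) }
  let τ := T.1.toScheme.toSpecΓ ≫ Spec.map (CommRingCat.ofHom f') ≫ P.isoSpec.inv
  have hτ : τ ≫ P.toSpecΓ = T.1.toScheme.toSpecΓ ≫ Spec.map (CommRingCat.ofHom f') := by
    simp only [τ, Category.assoc, Scheme.isoSpec_inv_toSpecΓ]
    erw [Category.comp_id]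
  have hm₀ : m₀ ≫ τ = c₀ ≫ s := by
    rw [← cancel_mono P.toSpecΓ, Category.assoc, hτ, Category.assoc, ← Category.assoc m₀,
      Scheme.toSpecΓ_naturality, Category.assoc, Scheme.toSpecΓ_naturality,
      Scheme.toSpecΓ_naturality_assoc, ← Spec.map_comp, ← Spec.map_comp]
    congr 2
    ext y
    exact hf y
  refine ⟨τ, ?_, fun {W} m c hm => ?_⟩
  · rw [← cancel_mono X.toSpecΓ, Category.assoc, Scheme.toSpecΓ_naturality, ← Category.assoc, hτ,
      Category.assoc, Scheme.toSpecΓ_naturality, ← Spec.map_comp]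
    congr 2
    ext y
    exact hμ ((hf _).trans (hθπ y))
  · have hsub : Set.range m ⊆ Set.range m₀ := by
      rw [Scheme.Opens.range_ι]
      rintro _ ⟨w, rfl⟩
      show qT (m w) ∈ U
      rw [← Scheme.Hom.comp_apply, hm, Scheme.Hom.comp_apply]
      exact (c w).2
    have hl : IsOpenImmersion.lift m₀ m hsub ≫ c₀ = c := by
      rw [← cancel_mono U.ι, Category.assoc, ← hmc, IsOpenImmersion.lift_fac_assoc, hm]
    rw [← hl, Category.assoc, ← hm₀, IsOpenImmersion.lift_fac_assoc]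

end Groth.Agent.QDom.Local
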